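/-
CN-groups: `isCNGroup_of_mulEquiv`, `commute_of_isNilpotent`, `commute_in_centralizer`,
`isNilpotent_of_commute`, `quotient_minimal`, `isCNGroup_quotient` (quotient by a solvable
normal subgroup of a CN-group is a CN-group).
-/
import Cfsg.Agent.Lib.Solvable.Basic
import Cfsg.Agent.Lib.Signalizer.PAction

set_option autoImplicit false
open Cfsg

namespace Cfsg.Agent.CN

variable {G : Type*} [Group G]

theorem isNilpotent_of_le {H K : Subgroup G} (h : H ≤ K) [Group.IsNilpotent K] :
    Group.IsNilpotent H :=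
  Group.nilpotent_of_mulEquiv (Subgroup.subgroupOfEquivOfLe h)

theorem isCNGroup_of_mulEquiv {H : Type*} [Group H] (e : G ≃* H) (h : IsCNGroup G) :
    IsCNGroup H := by
  intro x hx
  have := h (e.symm x) (by simpa using hx)
  have hmap : (Subgroup.centralizer ({e.symm x} : Set G)).map e.toMonoidHom =
      Subgroup.centralizer ({x} : Set H) := by
    ext y
    rw [Subgroup.mem_map_equiv, Subgroup.mem_centralizer_singleton_iff,
      Subgroup.mem_centralizer_singleton_iff, ← map_mul, ← map_mul]
    exact e.symm.injective.eq_iff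
  rw [← hmap]
  exact Group.nilpotent_of_mulEquiv
    ((Subgroup.centralizer ({e.symm x} : Set G)).equivMapOfInjective _ e.injective)

/-- elements of coprime order of a finite nilpotent group commute -/
theorem commute_of_isNilpotent [Finite G] [hG : Group.IsNilpotent G] {a b : G}
    (h : (orderOf a).Coprime (orderOf b)) : Commute a b := by
  obtain ⟨φ⟩ := ((Group.isNilpotent_of_finite_tfae (G := G)).out 0 4).1 hG
  obtain ⟨A, rfl⟩ := φ.surjective a
  obtain ⟨B, rfl⟩ := φ.surjective b
  rw [φ.orderOf_eq, φ.orderOf_eq] at h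
  refine Commute.map (f := φ.toMonoidHom) ?_
  funext p P
  let f : ((p : (Nat.card G).primeFactors) → (P : Sylow (p : ℕ) G) → (P : Subgroup G)) →*
      (P : Subgroup G) := MonoidHom.mk' (fun F => F p P) fun _ _ => rfl
  haveI : Fact (p : ℕ).Prime := ⟨Nat.prime_of_mem_primeFactors p.2⟩
  obtain ⟨i, hi⟩ := IsPGroup.iff_orderOf.1 P.isPGroup' (f A)
  obtain ⟨j, hj⟩ := IsPGroup.iff_orderOf.1 P.isPGroup' (f B)
  have hc : (orderOf (f A)).Coprime (orderOf (f B)) :=
    (h.coprime_dvd_left (orderOf_map_dvd f A)).coprime_dvd_right (orderOf_map_dvd f B)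
  rw [hi, hj] at hc
  rcases Nat.eq_zero_or_pos i with rfl | hi'
  · rw [pow_zero, orderOf_eq_one_iff] at hi
    exact (show f A * f B = f B * f A by rw [hi, one_mul, mul_one])
  · rcases Nat.eq_zero_or_pos j with rfl | hj'
    · rw [pow_zero, orderOf_eq_one_iff] at hj
      exact (show f A * f B = f B * f A by rw [hj, one_mul, mul_one])
    · exact absurd hc (Nat.not_coprime_of_dvd_of_dvd (Fact.out : (p : ℕ).Prime).one_lt
        (dvd_pow_self _ (by omega)) (dvd_pow_self _ (by omega)))

/-- in a CN-group, coprime elements centralising a common non-identity element commute -/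
theorem commute_in_centralizer [Finite G] (hG : IsCNGroup G) {z a b : G} (hz : z ≠ 1)
    (ha : Commute a z) (hb : Commute b z) (h : (orderOf a).Coprime (orderOf b)) :
    Commute a b := by
  haveI := hG z hz
  have hma : a ∈ Subgroup.centralizer ({z} : Set G) :=
    Subgroup.mem_centralizer_singleton_iff.2 ha.eq
  have hmb : b ∈ Subgroup.centralizer ({z} : Set G) :=
    Subgroup.mem_centralizer_singleton_iff.2 hb.eq
  rw [← Subgroup.orderOf_mk a hma, ← Subgroup.orderOf_mk b hmb] at h
  exact congrArg Subtype.val (commute_of_isNilpotent h).eq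

/-- a finite group in which prime-power elements for distinct primes commute is nilpotent -/
theorem isNilpotent_of_commute [Finite G]
    (h : ∀ p q : ℕ, p.Prime → q.Prime → p ≠ q → ∀ a b : G,
      (∃ i, orderOf a = p ^ i) → (∃ j, orderOf b = q ^ j) → Commute a b) :
    Group.IsNilpotent G := by
  refine ((Group.isNilpotent_of_finite_tfae (G := G)).out 0 3).2 fun p hp P => ?_
  rw [← Subgroup.normalizer_eq_top_iff, ← Subgroup.card_eq_iff_eq_top]
  refine Nat.dvd_antisymm (Subgroup.card_subgroup_dvd_card _) ?_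
  rw [Nat.dvd_iff_prime_pow_dvd_dvd]
  intro q n hq hqn
  haveI : Fact q.Prime := ⟨hq⟩
  haveI := hp
  obtain ⟨Q⟩ : Nonempty (Sylow q G) := inferInstance
  by_cases hqp : q = p
  · subst hqp
    exact ((Nat.pow_dvd_pow q ((hq.pow_dvd_iff_le_factorization Nat.card_pos.ne').1 hqn)).trans
      (P.card_eq_multiplicity ▸ dvd_rfl)).trans (Subgroup.card_dvd_of_le Subgroup.le_normalizer)
  have hQle : (Q : Subgroup G) ≤ Subgroup.normalizer ((P : Subgroup G) : Set G) := by
    refine le_trans ?_ (Subgroup.centralizer_le_normalizer _)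
    intro y hy
    refine Subgroup.mem_centralizer_iff.2 fun z hz => ?_
    obtain ⟨i, hi⟩ := IsPGroup.iff_orderOf.1 P.isPGroup' ⟨z, hz⟩
    obtain ⟨j, hj⟩ := IsPGroup.iff_orderOf.1 Q.isPGroup' ⟨y, hy⟩
    rw [Subgroup.orderOf_mk] at hi hj
    exact (h _ _ hp.out hq (Ne.symm hqp) z y ⟨i, hi⟩ ⟨j, hj⟩).eq
  exact ((Nat.pow_dvd_pow q ((hq.pow_dvd_iff_le_factorization Nat.card_pos.ne').1 hqn)).trans
    (Q.card_eq_multiplicity ▸ dvd_rfl)).trans (Subgroup.card_dvd_of_le hQle)

theorem isCNGroup_quotient_minimal [Finite G] (hG : IsCNGroup G) {N : Subgroup G} [N.Normal]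
    {p : ℕ} [Fact p.Prime] (hN0 : N ≠ ⊥) (hNp : IsPGroup p N) (hNc : IsMulCommutative N) :
    IsCNGroup (G ⧸ N) := by
  intro xb hxb
  -- reduce to an element of prime order
  obtain ⟨r, hr, hrd⟩ := Nat.exists_prime_and_dvd (n := orderOf xb)
    (fun h => hxb (orderOf_eq_one_iff.1 h))
  haveI : Fact r.Prime := ⟨hr⟩
  set yb := xb ^ (orderOf xb / r) with hyb
  have hyo : orderOf yb = r := orderOf_pow_orderOf_div (orderOf_pos xb).ne' hrd
  have hle : Subgroup.centralizer ({xb} : Set (G ⧸ N)) ≤ Subgroup.centralizer {yb} := by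
    intro g hg
    rw [Subgroup.mem_centralizer_singleton_iff] at hg ⊢
    exact (Commute.pow_right (show Commute g xb from hg) _).eq
  suffices hy : Group.IsNilpotent (Subgroup.centralizer ({yb} : Set (G ⧸ N))) by
    haveI := hy
    exact isNilpotent_of_le hle
  -- an `r`-element lifting `yb` up to a power prime to `r`
  obtain ⟨x₀, hx₀⟩ := QuotientGroup.mk'_surjective N yb
  obtain ⟨k, m, hm, hn⟩ := Nat.exists_eq_pow_mul_and_not_dvd (orderOf_pos x₀).ne' r hr.ne_one
  set x := x₀ ^ m with hx
  have hxr : x ^ (r ^ k) = 1 := by rw [hx, ← pow_mul, mul_comm, ← hn, pow_orderOf_eq_one]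
  have hxN : x ∉ N := by
    intro h
    rw [← QuotientGroup.eq_one_iff, hx, QuotientGroup.mk_pow] at h
    change QuotientGroup.mk' N x₀ ^ m = 1 at h
    rw [hx₀, ← orderOf_dvd_iff_pow_eq_one, hyo] at h
    exact hm h
  have hx1 : x ≠ 1 := fun h => hxN (h ▸ one_mem N)
  set X := Subgroup.zpowers x with hX
  have hXr : IsPGroup r X := by
    rintro ⟨_, i, rfl⟩
    refine ⟨k, Subtype.ext ?_⟩
    show (x ^ i) ^ (r ^ k) = 1
    rw [← zpow_natCast (x ^ i), ← zpow_mul, mul_comm, zpow_mul, zpow_natCast, hxr, one_zpow]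
  have hXN : ∀ A : Subgroup G, A ≤ Subgroup.normalizer (N : Set G) := fun A => by
    rw [Subgroup.normalizer_eq_top]; exact le_top
  set L := (Subgroup.centralizer ({yb} : Set (G ⧸ N))).comap (QuotientGroup.mk' N) with hL
  have hcomm : ∀ g ∈ L, g * x * g⁻¹ * x⁻¹ ∈ N := by
    intro g hg
    rw [hL, Subgroup.mem_comap, Subgroup.mem_centralizer_singleton_iff] at hg
    have h1 : Commute (QuotientGroup.mk' N g) (QuotientGroup.mk' N x) := by
      rw [hx, map_pow, hx₀]; exact Commute.pow_right hg _
    rw [← QuotientGroup.eq_one_iff]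
    change QuotientGroup.mk' N (g * x * g⁻¹ * x⁻¹) = 1
    rw [map_mul, map_mul, map_mul, h1.eq, map_inv, map_inv]
    group
  have hNnot : ∀ q : ℕ, q.Prime → q ≠ p → ¬ q ∣ Nat.card N := by
    intro q hq hqp hd
    obtain ⟨i, hi⟩ := IsPGroup.iff_card.1 hNp
    rw [hi] at hd
    exact hqp ((Nat.prime_dvd_prime_iff_eq hq Fact.out).1 (hq.dvd_of_dvd_pow hd))
  have hLsurj : L.map (QuotientGroup.mk' N) = Subgroup.centralizer ({yb} : Set (G ⧸ N)) :=
    Subgroup.map_comap_eq_self_of_surjective (QuotientGroup.mk'_surjective N) _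
  rw [← hLsurj]
  by_cases hrp : r = p
  · subst hrp
    suffices Group.IsNilpotent L by
      haveI := this
      exact Group.nilpotent_of_surjective _ ((QuotientGroup.mk' N).subgroupMap_surjective L)
    -- fixed points of `p`-subgroups on `N`
    have hfix : ∀ P : Subgroup G, IsPGroup r P → ∃ z ∈ N, z ≠ 1 ∧ ∀ a ∈ P, Commute a z := by
      intro P hP
      have hd : r ∣ Nat.card N := by
        obtain ⟨i, hi⟩ := IsPGroup.iff_card.1 hNp
        have hi0 : i ≠ 0 := by
          rintro rfl
          exact hN0 (Subgroup.eq_bot_of_card_eq N (by simpa using hi))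
        exact hi ▸ dvd_pow_self r hi0
      letI : MulAction P N := MulAction.compHom N ((MulAut.conjNormal : G →* MulAut N).comp P.subtype)
      have h1 : (1 : N) ∈ MulAction.fixedPoints P N := fun a =>
        map_one (MulAut.conjNormal (a : G))
      obtain ⟨z, hz, hz1⟩ := hP.exists_fixed_point_of_prime_dvd_card_of_fixed_point N hd h1
      refine ⟨z, z.2, fun h => hz1 (Subtype.ext h.symm), fun a ha => ?_⟩
      have := congrArg Subtype.val (hz ⟨a, ha⟩)
      exact mul_inv_eq_iff_eq_mul.1 this
    have key : ∀ a b : G, a ∈ L → b ∈ L → (∃ i, orderOf a = r ^ i) →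
        (orderOf b).Coprime r → (∃ q j, q.Prime ∧ q ≠ r ∧ orderOf b = q ^ j) →
        Commute a b ∧ ∀ h ∈ N, Commute h x → Commute b h := by
      intro a b haL hbL ⟨i, hi⟩ hbr ⟨q, j, hq, hqr, hj⟩
      haveI : Fact q.Prime := ⟨hq⟩
      -- `b` fixes an element of the coset `N x`
      have hB : IsPGroup q (Subgroup.zpowers b) :=
        IsPGroup.of_card (n := j) (by rw [Nat.card_zpowers, hj])
      obtain ⟨n, hn, hnx⟩ := Signalizer.exists_fixed_in_coset hB (hXN _) (hNnot q hq hqr) x
        (by
          intro c hc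
          exact hcomm c ((Subgroup.zpowers_le.2 hbL) hc))
      have hbc : Commute b (n * x) :=
        Subgroup.mem_centralizer_iff.1 hnx b (Subgroup.mem_zpowers b)
      have hne : n * x ≠ 1 := fun h => hxN (by
        have : x = n⁻¹ := by rw [eq_inv_iff_mul_eq_one]; exact (mul_eq_one_comm.1 h)
        exact this ▸ inv_mem hn)
      have hord : ∀ h ∈ N, (orderOf h).Coprime (orderOf b) := by
        intro h hh
        obtain ⟨l, hl⟩ := IsPGroup.iff_orderOf.1 hNp ⟨h, hh⟩
        rw [Subgroup.orderOf_mk] at hl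
        rw [hl]
        exact Nat.Coprime.pow_left _ hbr.symm
      have hH0 : ∀ h ∈ N, Commute h x → Commute b h := by
        intro h hh hhx
        have hnh : Commute h n := congrArg Subtype.val (hNc.is_comm.comm ⟨h, hh⟩ ⟨n, hn⟩)
        exact commute_in_centralizer hG hne hbc (hnh.mul_right hhx) (hord h hh).symm
      refine ⟨?_, hH0⟩
      -- `a` lies in a `p`-subgroup containing `x`
      have hQ : IsPGroup r ↥(X ⊔ N) := hXr.to_sup_of_normal_right hNp
      have hA : IsPGroup r (Subgroup.zpowers a) :=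
        IsPGroup.of_card (n := i) (by rw [Nat.card_zpowers, hi])
      have hAQ : Subgroup.zpowers a ≤ Subgroup.normalizer ((X ⊔ N : Subgroup G) : Set G) := by
        rw [Subgroup.zpowers_le]
        refine Signalizer.mem_normalizer_of_conj_mem fun y hy => ?_
        have hle2 : (X ⊔ N).map (MulAut.conj a).toMonoidHom ≤ X ⊔ N := by
          rw [Subgroup.map_sup]
          refine sup_le ?_ ?_
          · rw [hX, MonoidHom.map_zpowers, Subgroup.zpowers_le]
            show a * x * a⁻¹ ∈ _
            have : a * x * a⁻¹ = (a * x * a⁻¹ * x⁻¹) * x := by group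
            rw [this]
            exact mul_mem (Subgroup.mem_sup_right (hcomm a haL))
              (Subgroup.mem_sup_left (Subgroup.mem_zpowers x))
          · rintro w ⟨v, hv, rfl⟩
            exact Subgroup.mem_sup_right (Subgroup.Normal.conj_mem inferInstance v hv a)
        exact hle2 ⟨y, hy, rfl⟩
      obtain ⟨z, hz, hz1, hzc⟩ := hfix _ (hA.to_sup_of_normal_right' hQ hAQ)
      have hzx : Commute z x :=
        (hzc x (Subgroup.mem_sup_right (Subgroup.mem_sup_left (Subgroup.mem_zpowers x)))).symm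
      exact commute_in_centralizer hG hz1
        (hzc a (Subgroup.mem_sup_left (Subgroup.mem_zpowers a))) (hH0 z hz hzx)
        (hi ▸ Nat.Coprime.pow_left _ hbr.symm)
    obtain ⟨z₀, hz₀, hz₀1, hz₀x⟩ := hfix X hXr
    have hz₀x' : Commute z₀ x := (hz₀x x (Subgroup.mem_zpowers x)).symm
    apply isNilpotent_of_commute
    intro q s hq hs hqs a b ⟨i, hi⟩ ⟨j, hj⟩
    rw [← Subgroup.orderOf_coe] at hi hj
    show a * b = b * a
    refine Subtype.ext (show Commute (a : G) b from ?_)
    by_cases hqr : q = r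
    · subst hqr
      exact (key a b a.2 b.2 ⟨i, hi⟩
        (hj ▸ Nat.Coprime.pow_left _ ((Nat.coprime_primes hs hq).2 (Ne.symm hqs)))
        ⟨s, j, hs, Ne.symm hqs, hj⟩).1
    · by_cases hsr : s = r
      · subst hsr
        exact (key b a b.2 a.2 ⟨j, hj⟩
          (hi ▸ Nat.Coprime.pow_left _ ((Nat.coprime_primes hq hs).2 hqs))
          ⟨q, i, hq, hqs, hi⟩).1.symm
      · have h1 := key 1 a (one_mem L) a.2 ⟨0, by simp⟩
          (hi ▸ Nat.Coprime.pow_left _ ((Nat.coprime_primes hq Fact.out).2 hqr))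
          ⟨q, i, hq, hqr, hi⟩
        have h2 := key 1 b (one_mem L) b.2 ⟨0, by simp⟩
          (hj ▸ Nat.Coprime.pow_left _ ((Nat.coprime_primes hs Fact.out).2 hsr))
          ⟨s, j, hs, hsr, hj⟩
        exact commute_in_centralizer hG hz₀1 (h1.2 z₀ hz₀ hz₀x') (h2.2 z₀ hz₀ hz₀x')
          (hi ▸ hj ▸ Nat.Coprime.pow _ _ ((Nat.coprime_primes hq hs).2 hqs))
  · -- coprime case: `L = N C(x)`
    haveI := hG x hx1
    have hmap : L.map (QuotientGroup.mk' N) =
        (L ⊓ Subgroup.centralizer ({x} : Set G)).map (QuotientGroup.mk' N) := by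
      refine le_antisymm ?_ (Subgroup.map_mono inf_le_left)
      rintro _ ⟨g, hg, rfl⟩
      obtain ⟨n, hn, hng⟩ := Signalizer.exists_fixed_in_coset hXr (hXN _) (hNnot r hr hrp) g
        (by
          intro a ha
          rw [← QuotientGroup.eq_one_iff]
          obtain ⟨i, rfl⟩ := Subgroup.mem_zpowers_iff.1 ha
          have hgc : Commute (QuotientGroup.mk' N g) (QuotientGroup.mk' N x) := by
            rw [hL, SetLike.mem_coe, Subgroup.mem_comap,
              Subgroup.mem_centralizer_singleton_iff] at hg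
            rw [hx, map_pow, hx₀]; exact Commute.pow_right hg _
          change QuotientGroup.mk' N (x ^ i * g * (x ^ i)⁻¹ * g⁻¹) = 1
          rw [map_mul, map_mul, map_mul, map_zpow, ← (hgc.zpow_right i).eq, map_inv, map_inv,
            map_zpow]
          group)
      refine ⟨n * g, ⟨mul_mem ?_ hg, Signalizer.centralizer_le_singleton
        (Subgroup.mem_zpowers x) hng⟩, ?_⟩
      · show QuotientGroup.mk' N n ∈ Subgroup.centralizer ({yb} : Set (G ⧸ N))
        rw [QuotientGroup.mk'_apply, (QuotientGroup.eq_one_iff n).2 hn]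
        exact one_mem _
      · rw [map_mul, QuotientGroup.mk'_apply, (QuotientGroup.eq_one_iff n).2 hn, one_mul]

    rw [hmap]
    haveI : Group.IsNilpotent ↥(L ⊓ Subgroup.centralizer ({x} : Set G)) :=
      isNilpotent_of_le inf_le_right
    exact Group.nilpotent_of_surjective _ ((QuotientGroup.mk' N).subgroupMap_surjective _)

theorem isCNGroup_quotient [Finite G] (hG : IsCNGroup G) (H : Subgroup G) [H.Normal]
    [Group.IsSolvable H] : IsCNGroup (G ⧸ H) := by
  suffices ∀ n : ℕ, ∀ (G : Type _) [Group G] [Finite G], Nat.card G = n → IsCNGroup G →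
      ∀ (H : Subgroup G) [H.Normal], Group.IsSolvable H → IsCNGroup (G ⧸ H) from
    this _ G rfl hG H inferInstance
  intro n
  induction n using Nat.strong_induction_on with
  | _ n ih =>
    intro G _ _ hn hG H _ hH
    by_cases h0 : H = ⊥
    · subst h0
      exact isCNGroup_of_mulEquiv QuotientGroup.quotientBot.symm hG
    obtain ⟨p, hp, M, hMn, hM0, hMH, hMc, hMp, -, -⟩ := Solvable.exists_minimal_normal_pGroup h0
    haveI : Fact p.Prime := ⟨hp⟩
    haveI := hMn
    have hq := isCNGroup_quotient_minimal hG hM0 hMp hMc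
    haveI : (H.map (QuotientGroup.mk' M)).Normal :=
      Subgroup.Normal.map inferInstance _ (QuotientGroup.mk'_surjective M)
    have := ih _ (hn ▸ Solvable.card_quotient_lt hM0) (G ⧸ M) rfl hq
      (H.map (QuotientGroup.mk' M)) (Solvable.isSolvable_map _ H)
    exact isCNGroup_of_mulEquiv (QuotientGroup.quotientQuotientEquivQuotient M H hMH) this

end Cfsg.Agent.CN
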