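/-
Groups without odd normal subgroups with a TI Hall subgroup of even order containing the centralisers of its elements.

* `EvenTI`      : a Hall subgroup `H` of even order, TI, with `C(x) ≤ H` for `x ∈ H`, `x ≠ 1`
* `EvenTI.se`   : its normaliser `N` is strongly embedded
* `EvenTI.card_Ω`, `EvenTI.zassenhaus` : `G` acts on `G ⧸ N` as a Zassenhaus group with kernel `H`
* `EvenTI.isSimple`, `EvenTI.isPrimePow_card` : the group is simple and the order of `H` is a prime power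
* `EvenTI.card_G` : the order of the group
-/
import Cfsg.Agent.EqLemmas
import Cfsg.Agent.Lib.Involution.SEOrbit
import Cfsg.Agent.Lib.BSW.Basic
import Cfsg.Agent.Lib.Frobenius.Kernel
import Cfsg.Agent.S0346
import Cfsg.Agent.S0338
import Cfsg.Prelude.Def_LieExceptional

set_option autoImplicit false

open Cfsg MulAction

namespace Cfsg.Agent.CN

variable {G : Type*} [Group G] [Finite G]

variable (G) in
/-- A Hall subgroup of even order which is TI and contains the centralisers of its elements. -/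
structure EvenTI where
  /-- The subgroup. -/
  H : Subgroup G
  cent : ∀ x ∈ H, x ≠ 1 → Subgroup.centralizer ({x} : Set G) ≤ H
  ti : ∀ g x : G, x ∈ H → x ≠ 1 → g * x * g⁻¹ ∈ H → g ∈ Subgroup.normalizer (H : Set G)
  hall : (Nat.card H).Coprime H.index
  even : 2 ∣ Nat.card H
  not_normal : ¬ H.Normal
  odd_normal : ∀ M : Subgroup G, M.Normal → Odd (Nat.card M) → M = ⊥

namespace EvenTI

variable (E : EvenTI G)

/-- The normaliser. -/
abbrev N : Subgroup G := Subgroup.normalizer (E.H : Set G)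

/-- The base point. -/
abbrev pt : G ⧸ E.N := ((1 : G) : G ⧸ E.N)

theorem H_le_N : E.H ≤ E.N := Subgroup.le_normalizer

theorem mem_of_commute {g x : G} (hx : x ∈ E.H) (hx1 : x ≠ 1) (h : Commute g x) : g ∈ E.H :=
  E.cent x hx hx1 (Subgroup.mem_centralizer_singleton_iff.2 h.eq)

theorem mem_H_of_dvd {y : G} (hy : y ∈ E.N) (hd : orderOf y ∣ Nat.card E.H) : y ∈ E.H := by
  have hcop : (Nat.card E.H).Coprime (Nat.card (E.N ⧸ E.H.subgroupOf E.N)) :=
    E.hall.coprime_dvd_right (by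
      rw [← Subgroup.index_eq_card]
      exact Subgroup.relIndex_dvd_index_of_le E.H_le_N)
  set q := QuotientGroup.mk' (E.H.subgroupOf E.N)
  have h1 : orderOf (q ⟨y, hy⟩) ∣ Nat.card E.H :=
    ((orderOf_map_dvd q ⟨y, hy⟩).trans (by rw [Subgroup.orderOf_mk])).trans hd
  have h2 : q ⟨y, hy⟩ = 1 :=
    orderOf_eq_one_iff.1 (Nat.eq_one_of_dvd_coprimes hcop h1 (orderOf_dvd_natCard _))
  rw [QuotientGroup.mk'_apply, QuotientGroup.eq_one_iff] at h2
  exact h2

theorem inv_mem {t : G} (ht : orderOf t = 2) (htN : t ∈ E.N) : t ∈ E.H :=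
  E.mem_H_of_dvd htN (ht ▸ E.even)

theorem H_ne_bot : E.H ≠ ⊥ := fun h => by
  have := E.even
  rw [h, Subgroup.card_bot] at this
  omega

theorem N_ne_top : E.N ≠ ⊤ := fun h => E.not_normal (Subgroup.normalizer_eq_top_iff.1 h)

theorem ne_top : E.H ≠ ⊤ := fun h => E.not_normal (h ▸ inferInstance)

theorem se : IsStronglyEmbedded E.N :=
  Involution.isStronglyEmbedded_iff_forall.2 ⟨E.N_ne_top,
    even_iff_two_dvd.2 (E.even.trans (Subgroup.card_dvd_of_le E.H_le_N)),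
    fun g t ht htN hg => E.ti g t (E.inv_mem ht htN) (Involution.ne_one ht)
      (E.inv_mem (by rw [Involution.orderOf_conj, ht]) hg)⟩

theorem smul_pt (g : G) : g • E.pt = (g : G ⧸ E.N) := by
  rw [MulAction.Quotient.smul_coe, smul_eq_mul, mul_one]

theorem exists_smul_pt (c : G ⧸ E.N) : ∃ g : G, g • E.pt = c :=
  ⟨c.out, by rw [E.smul_pt, QuotientGroup.out_eq']⟩

theorem stab_pt {g : G} : g • E.pt = E.pt ↔ g ∈ E.N := by
  rw [E.smul_pt, QuotientGroup.eq, mul_one, inv_mem_iff]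

theorem semiregular {x : G} (hx : x ∈ E.H) (hx1 : x ≠ 1) {c : G ⧸ E.N} (hc : x • c = c) :
    c = E.pt := by
  obtain ⟨g, rfl⟩ := E.exists_smul_pt c
  have hy : g⁻¹ * x * g⁻¹⁻¹ ∈ E.N := by
    rw [inv_inv, ← E.stab_pt, mul_smul, mul_smul, inv_smul_eq_iff]
    exact hc
  have hy' := E.mem_H_of_dvd hy (by
    rw [Involution.orderOf_conj]; exact Subgroup.orderOf_dvd_natCard _ hx)
  rw [E.stab_pt]
  exact inv_mem_iff.1 (E.ti g⁻¹ x hx hx1 hy')

/-- The stabiliser of the base point and `b`. -/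
abbrev D (b : G ⧸ E.N) : Subgroup G := stabilizer G E.pt ⊓ stabilizer G b

theorem mem_D {b : G ⧸ E.N} {x : G} : x ∈ E.D b ↔ x • E.pt = E.pt ∧ x • b = b := Iff.rfl

theorem D_le_N (b : G ⧸ E.N) : E.D b ≤ E.N := fun _ hx => E.stab_pt.1 hx.1

theorem D_inf_H {b : G ⧸ E.N} (hb : b ≠ E.pt) : ∀ x ∈ E.D b, x ∈ E.H → x = 1 := fun _ hx hxH =>
  by_contra fun h1 => hb (E.semiregular hxH h1 hx.2)

/-- The number of involutions of `N`. -/
noncomputable def k : ℕ := Nat.card {t : G // orderOf t = 2 ∧ t ∈ E.N}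

theorem exists_inv : ∃ t ∈ E.N, orderOf t = 2 :=
  Involution.exists_involution_mem (even_iff_two_dvd.2 (E.even.trans (Subgroup.card_dvd_of_le E.H_le_N)))

theorem card_D {b : G ⧸ E.N} (hb : b ≠ E.pt) : Nat.card (E.D b) = E.k := by
  obtain ⟨t, htN, ht⟩ := E.exists_inv
  refine Nat.card_congr (Equiv.ofBijective (fun d : E.D b =>
    (⟨(d : G) * t * (d : G)⁻¹, by rw [Involution.orderOf_conj, ht],
      E.N.mul_mem (E.N.mul_mem (E.D_le_N b d.2) htN) (E.N.inv_mem (E.D_le_N b d.2))⟩ :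
      {t : G // orderOf t = 2 ∧ t ∈ E.N})) ⟨fun d e hde => ?_, fun u => ?_⟩)
  · have h : (d : G) * t * (d : G)⁻¹ = (e : G) * t * (e : G)⁻¹ := congrArg Subtype.val hde
    have hc : Commute ((e : G)⁻¹ * d) t := by
      refine mul_inv_eq_iff_eq_mul.1 ?_
      calc (e : G)⁻¹ * d * t * ((e : G)⁻¹ * d)⁻¹
          = (e : G)⁻¹ * ((d : G) * t * (d : G)⁻¹) * e := by group
        _ = t := by rw [h]; group
    have := E.D_inf_H hb _ ((E.D b).mul_mem ((E.D b).inv_mem e.2) d.2)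
      (E.mem_of_commute (E.inv_mem ht htN) (Involution.ne_one ht) hc)
    exact Subtype.ext (inv_mul_eq_one.1 this).symm
  · obtain ⟨d, hd, hdt⟩ := Involution.exists_conj_two_point E.se (Ne.symm hb) ht
      (E.stab_pt.2 htN) u.2.1 (E.stab_pt.2 u.2.2)
    exact ⟨⟨d, hd⟩, Subtype.ext hdt⟩

theorem exists_ne_pt : ∃ b : G ⧸ E.N, b ≠ E.pt := by
  by_contra h
  push Not at h
  exact E.N_ne_top (eq_top_iff.2 fun g _ => E.stab_pt.1 (h _))

theorem card_N_le : Nat.card E.N ≤ E.k * Nat.card E.H := by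
  classical
  obtain ⟨t, htN, ht⟩ := E.exists_inv
  let φ : E.N → {t : G // orderOf t = 2 ∧ t ∈ E.N} := fun g =>
    ⟨(g : G) * t * (g : G)⁻¹, by rw [Involution.orderOf_conj, ht],
      E.N.mul_mem (E.N.mul_mem g.2 htN) (E.N.inv_mem g.2)⟩
  let r : {t : G // orderOf t = 2 ∧ t ∈ E.N} → E.N := fun u =>
    if h : ∃ g, φ g = u then h.choose else 1
  have hr : ∀ g, φ (r (φ g)) = φ g := fun g => by
    have h : ∃ g', φ g' = φ g := ⟨g, rfl⟩
    simp only [r, dif_pos h]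
    exact h.choose_spec
  have hmem : ∀ g : E.N, ((r (φ g) : E.N) : G)⁻¹ * g ∈ E.H := by
    intro g
    have h : ((r (φ g) : E.N) : G) * t * ((r (φ g) : E.N) : G)⁻¹ = (g : G) * t * (g : G)⁻¹ :=
      congrArg Subtype.val (hr g)
    refine E.mem_of_commute (E.inv_mem ht htN) (Involution.ne_one ht) (mul_inv_eq_iff_eq_mul.1 ?_)
    generalize ((r (φ g) : E.N) : G) = a at h ⊢
    calc a⁻¹ * g * t * (a⁻¹ * g)⁻¹ = a⁻¹ * ((g : G) * t * (g : G)⁻¹) * a := by group
      _ = t := by rw [← h]; group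
  have := Nat.card_le_card_of_injective (fun g : E.N => ((φ g, ⟨_, hmem g⟩) : _ × E.H)) (by
    intro g g' h
    simp only [Prod.mk.injEq] at h
    have h2 := congrArg Subtype.val h.2
    simp only at h2
    rw [h.1] at h2
    exact Subtype.ext (mul_left_cancel h2))
  rwa [Nat.card_prod] at this

theorem exists_mul_eq {b : G ⧸ E.N} (hb : b ≠ E.pt) {g : G} (hg : g ∈ E.N) :
    ∃ d ∈ E.D b, ∃ h ∈ E.H, d * h = g := by
  let f : E.D b × E.H → E.N := fun p => ⟨(p.1 : G) * p.2, E.N.mul_mem (E.D_le_N b p.1.2) (E.H_le_N p.2.2)⟩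
  have hf : Function.Injective f := by
    rintro ⟨d, h⟩ ⟨e, i⟩ hp
    have hp' : (d : G) * h = (e : G) * i := congrArg Subtype.val hp
    have h1 : (e : G)⁻¹ * d = 1 := E.D_inf_H hb _ ((E.D b).mul_mem ((E.D b).inv_mem e.2) d.2) (by
      have : (e : G)⁻¹ * d = (i : G) * (h : G)⁻¹ := by
        calc (e : G)⁻¹ * d = (e : G)⁻¹ * ((d : G) * h) * (h : G)⁻¹ := by group
          _ = (i : G) * (h : G)⁻¹ := by rw [hp']; group
      rw [this]
      exact E.H.mul_mem i.2 (E.H.inv_mem h.2))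
    have hde : d = e := Subtype.ext (inv_mul_eq_one.1 h1).symm
    subst hde
    exact Prod.ext rfl (Subtype.ext (mul_left_cancel hp'))
  have hbij : Function.Bijective f := (Nat.bijective_iff_injective_and_card f).2 ⟨hf,
    le_antisymm (Nat.card_le_card_of_injective f hf) (by
      rw [Nat.card_prod, E.card_D hb]; exact E.card_N_le)⟩
  obtain ⟨⟨d, h⟩, hp⟩ := hbij.2 ⟨g, hg⟩
  exact ⟨d, d.2, h, h.2, congrArg Subtype.val hp⟩

theorem card_N {b : G ⧸ E.N} (hb : b ≠ E.pt) : Nat.card E.N = E.k * Nat.card E.H := by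
  refine le_antisymm E.card_N_le ?_
  rw [← E.card_D hb, ← Nat.card_prod]
  refine Nat.card_le_card_of_injective
    (fun p : E.D b × E.H => (⟨(p.1 : G) * p.2, E.N.mul_mem (E.D_le_N b p.1.2) (E.H_le_N p.2.2)⟩ : E.N)) ?_
  rintro ⟨d, h⟩ ⟨e, i⟩ hp
  have hp' : (d : G) * h = (e : G) * i := congrArg Subtype.val hp
  have h1 : (e : G)⁻¹ * d = 1 := E.D_inf_H hb _ ((E.D b).mul_mem ((E.D b).inv_mem e.2) d.2) (by
    have : (e : G)⁻¹ * d = (i : G) * (h : G)⁻¹ := by
      calc (e : G)⁻¹ * d = (e : G)⁻¹ * ((d : G) * h) * (h : G)⁻¹ := by group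
        _ = (i : G) * (h : G)⁻¹ := by rw [hp']; group
    rw [this]
    exact E.H.mul_mem i.2 (E.H.inv_mem h.2))
  have hde : d = e := Subtype.ext (inv_mul_eq_one.1 h1).symm
  subst hde
  exact Prod.ext rfl (Subtype.ext (mul_left_cancel hp'))

/-- The involutions carrying the base point to `b`. -/
def T (b : G ⧸ E.N) : Set G := {t | orderOf t = 2 ∧ t • E.pt = b}

theorem T_back {b : G ⧸ E.N} {t : G} (ht : t ∈ E.T b) : t • b = E.pt := by
  rw [← ht.2, smul_smul, Involution.mul_self ht.1, one_smul]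

theorem card_T {b : G ⧸ E.N} (hb : b ≠ E.pt) : Nat.card (E.T b) = E.k :=
  Involution.card_swapping E.se (Ne.symm hb)

theorem inverts {b : G ⧸ E.N} (hb : b ≠ E.pt) {s : G} (hs : s ∈ E.T b) {d : G} (hd : d ∈ E.D b) :
    s * d * s⁻¹ = d⁻¹ := by
  have hm : ∀ t : E.T b, s * t ∈ E.D b := fun t => E.mem_D.2
    ⟨by rw [mul_smul, t.2.2, E.T_back hs], by rw [mul_smul, E.T_back t.2, hs.2]⟩
  have hbij : Function.Bijective (fun t : E.T b => (⟨s * t, hm t⟩ : E.D b)) := by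
    refine (Nat.bijective_iff_injective_and_card _).2 ⟨?_, ?_⟩
    · exact fun t u htu => Subtype.ext (mul_left_cancel (congrArg Subtype.val htu))
    · rw [E.card_T hb, E.card_D hb]
  obtain ⟨⟨t, ht⟩, htd⟩ := hbij.2 ⟨d, hd⟩
  have e : d = s * t := (congrArg Subtype.val htd).symm
  rw [e]
  exact Involution.inverts_mul_left hs.1 ht.1

theorem exists_swap {b : G ⧸ E.N} (hb : b ≠ E.pt) : ∃ s : G, s ∈ E.T b := by
  have hk : 0 < Nat.card (E.T b) := by
    rw [E.card_T hb, ← E.card_D hb]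
    exact Nat.card_pos
  obtain ⟨⟨s, hs⟩⟩ := (Nat.card_pos_iff.1 hk).1
  exact ⟨s, hs⟩

theorem D_comm {b : G ⧸ E.N} (hb : b ≠ E.pt) {d e : G} (hd : d ∈ E.D b) (he : e ∈ E.D b) :
    Commute d e := by
  obtain ⟨s, hs⟩ := E.exists_swap hb
  have h := E.inverts hb hs ((E.D b).mul_mem hd he)
  rw [← _root_.conj_mul, E.inverts hb hs hd, E.inverts hb hs he, ← mul_inv_rev, inv_inj] at h
  exact h.symm

/-- The elements of `N` commuting with a non-identity element of `D b` lie in `D b`. -/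
theorem mem_D_of_commute {b : G ⧸ E.N} (hb : b ≠ E.pt) {g x : G} (hg : g ∈ E.N) (hx : x ∈ E.D b)
    (hx1 : x ≠ 1) (hgx : Commute g x) : g ∈ E.D b := by
  obtain ⟨d, hd, h, hh, rfl⟩ := E.exists_mul_eq hb hg
  rcases eq_or_ne h 1 with rfl | h1
  · rwa [mul_one]
  refine absurd (E.D_inf_H hb x hx (E.mem_of_commute hh h1 ?_)) hx1
  have := (E.D_comm hb hd hx).inv_left.mul_left hgx
  rw [inv_mul_cancel_left] at this
  exact this.symm

theorem not_conj_mem {b : G ⧸ E.N} (hb : b ≠ E.pt) {x : G} (hx : x ∈ E.D b) (hx1 : x ≠ 1) (g : G) :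
    g⁻¹ * x * g⁻¹⁻¹ ∉ E.H := fun h =>
  hx1 (E.D_inf_H hb x hx (E.mem_H_of_dvd (E.D_le_N b hx) (by
    rw [← Involution.orderOf_conj g⁻¹ x]; exact Subgroup.orderOf_dvd_natCard _ h)))

/-- An involution commutes with no non-identity element commuting with `x ∈ D b`, `x ≠ 1`. -/
theorem eq_one_of_commute {b : G ⧸ E.N} (hb : b ≠ E.pt) {x : G} (hx : x ∈ E.D b) (hx1 : x ≠ 1)
    {s y : G} (hs : orderOf s = 2) (hyx : Commute y x) (hsy : Commute y s) : y = 1 := by
  by_contra hy1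
  obtain ⟨g, hg⟩ := Involution.exists_conj_mem E.se hs
  have hs' : g⁻¹ * s * g⁻¹⁻¹ ∈ E.H := E.inv_mem (by rw [Involution.orderOf_conj, hs]) (by rwa [inv_inv])
  have hy' : g⁻¹ * y * g⁻¹⁻¹ ∈ E.H :=
    E.mem_of_commute hs' (fun e => Involution.ne_one hs (conj_eq_one_iff.1 e))
      ((Commute.conj_iff g⁻¹).2 hsy)
  exact E.not_conj_mem hb hx hx1 g (E.mem_of_commute hy'
    (fun e => hy1 (conj_eq_one_iff.1 e)) ((Commute.conj_iff g⁻¹).2 hyx.symm))

theorem centralizer_le_N {b : G ⧸ E.N} (hb : b ≠ E.pt) {x : G} (hx : x ∈ E.D b) (hx1 : x ≠ 1)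
    {y : G} (hyx : Commute y x) : y ∈ E.N := by
  obtain ⟨s, hs⟩ := E.exists_swap hb
  have hsx := E.inverts hb hs hx
  have hY : ∀ w : G, orderOf w = 2 → w * x * w⁻¹ = x⁻¹ →
      (∀ z ∈ Subgroup.centralizer ({x} : Set G), w * z * w⁻¹ = z⁻¹) ∧
      (∀ z ∈ Subgroup.centralizer ({x} : Set G), ∀ z' ∈ Subgroup.centralizer ({x} : Set G),
        z * z' = z' * z) := by
    intro w hw hwx
    refine BSW.inverts_of_free _ (Involution.mul_self hw) (fun z hz => ?_) (fun z hz hc => ?_)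
    · rw [Subgroup.mem_centralizer_singleton_iff] at hz ⊢
      refine Commute.eq ?_
      have h1 : Commute (w * z * w⁻¹) (w * x * w⁻¹) := (Commute.conj_iff w).2 hz
      rw [hwx] at h1
      simpa using h1.inv_right
    · exact E.eq_one_of_commute hb hx hx1 hw (Subgroup.mem_centralizer_singleton_iff.1 hz)
        (show Commute z w from hc.symm)
  by_contra hyN
  have hw : y • E.pt ≠ E.pt := fun h => hyN (E.stab_pt.1 h)
  have hym : y ∈ Subgroup.centralizer ({x} : Set G) := Subgroup.mem_centralizer_singleton_iff.2 hyx.eq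
  have hxw : x ∈ E.D (y • E.pt) := E.mem_D.2 ⟨hx.1, by
    rw [← mul_smul, ← hyx.eq, mul_smul, hx.1]⟩
  obtain ⟨u, hu⟩ := E.exists_swap hw
  have hux := E.inverts hw hu hxw
  have huy : u * y * u⁻¹ = y⁻¹ := (hY u hu.1 hux).1 y hym
  have hN : u * y ∈ E.N := E.stab_pt.1 (by rw [mul_smul, E.T_back hu])
  have huy2 : u * y * (u * y) = 1 := by
    calc u * y * (u * y) = (u * y * u⁻¹) * (u * u) * y := by group
      _ = 1 := by rw [huy, Involution.mul_self hu.1, mul_one, inv_mul_cancel]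
  have hinv : (u * y) * x * (u * y)⁻¹ = x⁻¹ := by
    calc (u * y) * x * (u * y)⁻¹ = u * (y * x * y⁻¹) * u⁻¹ := by group
      _ = x⁻¹ := by rw [hyx.eq, mul_inv_cancel_right, hux]
  have hH : u * y ∈ E.H := by
    rcases eq_or_ne (u * y) 1 with h | h
    · exact h ▸ E.H.one_mem
    · exact E.inv_mem (Involution.orderOf_of_sq huy2 h) hN
  have hcomm : (u * y) * (x * (u * y)⁻¹ * x⁻¹) ∈ E.H := E.H.mul_mem hH
    ((Subgroup.mem_normalizer_iff.1 (E.D_le_N b hx) _).1 (E.H.inv_mem hH))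
  rw [show (u * y) * (x * (u * y)⁻¹ * x⁻¹) = (u * y) * x * (u * y)⁻¹ * x⁻¹ by group, hinv] at hcomm
  have hxx : x⁻¹ * x⁻¹ = 1 :=
    E.D_inf_H hb _ ((E.D b).mul_mem ((E.D b).inv_mem hx) ((E.D b).inv_mem hx)) hcomm
  have h2 : orderOf x⁻¹ = 2 := Involution.orderOf_of_sq hxx (by simpa using hx1)
  exact hx1 (E.D_inf_H hb x hx (inv_mem_iff.1 (E.inv_mem h2 (E.N.inv_mem (E.D_le_N b hx)))))

theorem two_fix {b c : G ⧸ E.N} (hb : b ≠ E.pt) (hc : c ≠ E.pt) {x : G} (hx : x ∈ E.D b)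
    (hx1 : x ≠ 1) (hxc : x • c = c) : b = c := by
  have hxc' : x ∈ E.D c := E.mem_D.2 ⟨hx.1, hxc⟩
  obtain ⟨s, hs⟩ := E.exists_swap hb
  obtain ⟨t, ht⟩ := E.exists_swap hc
  have hst : Commute (s⁻¹ * t) x := by
    refine mul_inv_eq_iff_eq_mul.1 ?_
    calc (s⁻¹ * t) * x * (s⁻¹ * t)⁻¹ = s⁻¹ * (t * x * t⁻¹) * s := by group
      _ = s⁻¹ * (s * x * s⁻¹) * s := by rw [E.inverts hc ht hxc', E.inverts hb hs hx]
      _ = x := by group
  have h3 : (s⁻¹ * t) • E.pt = E.pt := E.stab_pt.2 (E.centralizer_le_N hb hx hx1 hst)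
  rw [mul_smul, ht.2, inv_smul_eq_iff, hs.2] at h3
  exact h3.symm

theorem two_le_k : 2 ≤ E.k := by
  obtain ⟨b, hb⟩ := E.exists_ne_pt
  by_contra h
  have hk : E.k = 1 := by
    have := Nat.card_pos (α := E.D b)
    rw [E.card_D hb] at this
    omega
  have hNH : E.H = E.N := Subgroup.eq_of_le_of_card_ge E.H_le_N (by rw [E.card_N hb, hk, one_mul])
  have hFC : IsFrobeniusComplement E.H := by
    refine ⟨E.H_ne_bot, E.ne_top, fun g hg => ?_⟩
    rw [Subgroup.eq_bot_iff_forall]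
    intro x hx
    by_contra hx1
    refine hg (inv_mem_iff.1 (hNH.ge (E.ti g⁻¹ x hx.1 hx1 ?_)))
    rw [inv_inv]
    exact Involution.mem_map_conj_iff.1 hx.2
  refine Frobenius.frobKernel_ne_bot hFC (E.odd_normal _ (Frobenius.frobKernel_normal hFC) ?_)
  rw [Frobenius.card_frobKernel hFC]
  exact Nat.coprime_two_left.1 (E.hall.coprime_dvd_left E.even)

theorem card_Ω : Nat.card (G ⧸ E.N) = Nat.card E.H + 1 ∧
    ∀ b c : G ⧸ E.N, b ≠ E.pt → c ≠ E.pt → ∃ x ∈ E.H, x • b = c := by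
  classical
  have := Fintype.ofFinite G
  let X := {b : G ⧸ E.N // b ≠ E.pt}
  have hX : Nat.card (G ⧸ E.N) = Nat.card X + 1 := by
    rw [Nat.card_eq_fintype_card, Nat.card_eq_fintype_card, Fintype.card_subtype_compl,
      Fintype.card_subtype_eq]
    have : 0 < Fintype.card (G ⧸ E.N) := Fintype.card_pos
    omega
  have hk := E.two_le_k
  have hinj : ∀ b : X, Function.Injective (fun x : E.H => (⟨(x : G) • b.1, fun h => b.2
      (smul_left_cancel (x : G) (h.trans (E.stab_pt.2 (E.H_le_N x.2)).symm))⟩ : X)) := by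
    intro b x y hxy
    have h : (x : G) • b.1 = (y : G) • b.1 := congrArg Subtype.val hxy
    by_contra hne
    refine b.2 (E.semiregular (y⁻¹ * x : E.H).2 (fun e => hne ?_) (c := b.1) ?_)
    · exact (inv_mul_eq_one.1 (Subtype.ext e)).symm
    · rw [Subgroup.coe_mul, Subgroup.coe_inv, mul_smul, h, inv_smul_smul]
  -- the sets `D b ∖ 1` are disjoint subsets of `N ∖ H`
  let Y := Σ b : X, {x : E.D b.1 // x ≠ 1}
  let Z := {g : E.N // g ∉ E.H.subgroupOf E.N}
  let ψ : Y → Z := fun p => ⟨⟨p.2.1, E.D_le_N _ p.2.1.2⟩, fun h =>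
    p.2.2 (Subtype.ext (E.D_inf_H p.1.2 _ p.2.1.2 h))⟩
  have hψ : Function.Injective ψ := by
    rintro ⟨b, x⟩ ⟨c, y⟩ hxy
    have h : (x.1 : G) = y.1 := congrArg (fun w : Z => ((w.1 : E.N) : G)) hxy
    have hbc : b = c := Subtype.ext (E.two_fix b.2 c.2 x.1.2
      (fun e => x.2 (Subtype.ext e)) (by rw [h]; exact y.1.2.2))
    subst hbc
    exact congrArg (Sigma.mk b) (Subtype.ext (Subtype.ext h))
  have hY : Nat.card Y = Nat.card X * (E.k - 1) := by
    rw [Nat.card_sigma, Finset.sum_const_nat (m := E.k - 1)]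
    · rw [Finset.card_univ, Nat.card_eq_fintype_card]
    · intro b _
      rw [Nat.card_eq_fintype_card, Fintype.card_subtype_compl, Fintype.card_subtype_eq,
        ← Nat.card_eq_fintype_card, E.card_D b.2]
  obtain ⟨b₀, hb₀⟩ := E.exists_ne_pt
  have hZ : Nat.card Z = Nat.card E.H * (E.k - 1) := by
    have h2 : Nat.card Z = Nat.card E.N - Nat.card (E.H.subgroupOf E.N) := by
      rw [Nat.card_eq_fintype_card, Fintype.card_subtype_compl, Nat.card_eq_fintype_card,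
        Nat.card_eq_fintype_card]
    rw [h2, E.card_N hb₀, Nat.card_congr (Subgroup.subgroupOfEquivOfLe E.H_le_N).toEquiv, Nat.mul_sub,
      mul_one, mul_comm]
  have h1 : Nat.card X ≤ Nat.card E.H := by
    have := Nat.card_le_card_of_injective ψ hψ
    rw [hY, hZ] at this
    exact Nat.le_of_mul_le_mul_right this (by omega)
  have h2 : Nat.card E.H ≤ Nat.card X := Nat.card_le_card_of_injective _ (hinj ⟨b₀, hb₀⟩)
  refine ⟨by omega, fun b c hb hc => ?_⟩
  have hb' : Function.Bijective _ :=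
    (Nat.bijective_iff_injective_and_card _).2 ⟨hinj ⟨b, hb⟩, (le_antisymm h2 h1 : Nat.card E.H = Nat.card X)⟩
  obtain ⟨x, hx⟩ := hb'.2 ⟨c, hc⟩
  exact ⟨x, x.2, congrArg Subtype.val hx⟩

theorem pretransitive2 : IsMultiplyPretransitive G (G ⧸ E.N) 2 := by
  refine MulAction.is_two_pretransitive_iff.2 ?_
  intro a b c d hab hcd
  have key : ∀ x y : G ⧸ E.N, x ≠ y → ∀ b₀ : G ⧸ E.N, b₀ ≠ E.pt →
      ∃ g : G, g • E.pt = x ∧ g • b₀ = y := by
    intro x y hxy b₀ hb₀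
    obtain ⟨g, rfl⟩ := E.exists_smul_pt x
    have hy : g⁻¹ • y ≠ E.pt := fun h => hxy (inv_smul_eq_iff.1 h).symm
    obtain ⟨u, hu, huy⟩ := E.card_Ω.2 b₀ (g⁻¹ • y) hb₀ hy
    exact ⟨g * u, by rw [mul_smul, E.stab_pt.2 (E.H_le_N hu)],
      by rw [mul_smul, huy, smul_inv_smul]⟩
  obtain ⟨b₀, hb₀⟩ := E.exists_ne_pt
  obtain ⟨g, rfl, rfl⟩ := key a b hab b₀ hb₀
  obtain ⟨h, rfl, rfl⟩ := key c d hcd b₀ hb₀
  exact ⟨h * g⁻¹, by rw [mul_smul, inv_smul_smul], by rw [mul_smul, inv_smul_smul]⟩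

theorem faithful : FaithfulSMul G (G ⧸ E.N) := by
  refine ⟨fun {g g'} h => ?_⟩
  have hinj : Function.Injective (MulAction.toPermHom G (G ⧸ E.N)) := by
    refine (MonoidHom.ker_eq_bot_iff _).1 (E.odd_normal _ inferInstance ?_)
    rw [Involution.odd_iff_no_involution]
    intro t ht ht2
    obtain ⟨b, hb⟩ := E.exists_ne_pt
    have hfix : ∀ c : G ⧸ E.N, t • c = c := fun c => Equiv.congr_fun (MonoidHom.mem_ker.1 ht) c
    exact hb (Involution.fixed_unique E.se ht2 (hfix b) (hfix E.pt))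
  exact hinj (Equiv.ext h)

theorem zassenhaus : IsZassenhausGroup G (G ⧸ E.N) := by
  refine ⟨E.faithful, E.pretransitive2, ?_, ?_, ?_⟩
  · intro g a b c hab hbc hac ha hb hc
    obtain ⟨h, rfl⟩ := E.exists_smul_pt a
    by_contra hg
    have hfix : ∀ w : G ⧸ E.N, g • w = w → (h⁻¹ * g * h) • (h⁻¹ • w) = h⁻¹ • w := fun w hw => by
      rw [mul_smul, mul_smul, smul_inv_smul, hw]
    have h1 : (h⁻¹ * g * h) • E.pt = E.pt := by rw [mul_smul, mul_smul, ha, inv_smul_smul]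
    have hb' : h⁻¹ • b ≠ E.pt := fun e => hab (inv_smul_eq_iff.1 e).symm
    have hc' : h⁻¹ • c ≠ E.pt := fun e => hac (inv_smul_eq_iff.1 e).symm
    exact hbc (smul_left_cancel h⁻¹ (E.two_fix hb' hc' (E.mem_D.2 ⟨h1, hfix b hb⟩)
      (fun e => hg (by
        have : g = h * (h⁻¹ * g * h) * h⁻¹ := by group
        rw [this, e, mul_one, mul_inv_cancel]))
      (hfix c hc)))
  · obtain ⟨b, hb⟩ := E.exists_ne_pt
    haveI : Nontrivial (E.D b) := Finite.one_lt_card_iff_nontrivial.1 (by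
      rw [E.card_D hb]; exact E.two_le_k)
    obtain ⟨x, hx⟩ := exists_ne (1 : E.D b)
    exact ⟨x, fun e => hx (Subtype.ext e), E.pt, b, hb.symm, x.2.1, x.2.2⟩
  · intro M hM hpre
    refine ⟨E.pt, fun h => ?_⟩
    have hM1 : M = ⊥ := by
      refine E.odd_normal M hM ?_
      have h1 : Nat.card M = Nat.card (G ⧸ E.N) := by
        refine Nat.card_congr (Equiv.ofBijective (fun m : M => (m : G) • E.pt)
          ⟨fun a b hab => ?_, fun c => hpre.exists_smul_eq E.pt c⟩)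
        have hfix : ((b⁻¹ * a : M) : G) • E.pt = E.pt := by
          rw [Subgroup.coe_mul, Subgroup.coe_inv, mul_smul,
            show (a : G) • E.pt = (b : G) • E.pt from hab, inv_smul_smul]
        have h2 : b⁻¹ * a = 1 := Subgroup.mem_bot.1 (SetLike.le_def.1 h.le hfix)
        exact (inv_mul_eq_one.1 h2).symm
      rw [h1, E.card_Ω.1]
      exact Even.add_one (even_iff_two_dvd.2 E.even)
    subst hM1
    obtain ⟨b, hb⟩ := E.exists_ne_pt
    obtain ⟨g, hg⟩ := hpre.exists_smul_eq E.pt b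
    rw [Subgroup.smul_def, Subgroup.mem_bot.1 g.2, one_smul] at hg
    exact hb hg.symm

theorem isSimple (E : EvenTI G) : IsSimpleGroup G := by
  have := Fintype.ofFinite (G ⧸ E.N)
  refine S0338.result E.zassenhaus ?_
  rw [← Nat.card_eq_fintype_card, E.card_Ω.1]
  exact Even.add_one (even_iff_two_dvd.2 E.even)

theorem card_G : Nat.card G = (Nat.card E.H + 1) * (E.k * Nat.card E.H) := by
  obtain ⟨b, hb⟩ := E.exists_ne_pt
  rw [← E.card_N hb, ← E.card_Ω.1, ← Subgroup.index_eq_card, Subgroup.index_mul_card]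

theorem isPrimePow_card : IsPrimePow (Nat.card E.H) := by
  have := E.isSimple
  have := Fintype.ofFinite (G ⧸ E.N)
  have h := S0346.result E.zassenhaus
  rwa [← Nat.card_eq_fintype_card, E.card_Ω.1, Nat.add_sub_cancel] at h

end EvenTI

end Cfsg.Agent.CN
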