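/-
The structure of solvable CN-groups with a nontrivial normal `p`-subgroup.

* `NS p G` : the `p`-elements form the largest normal `p`-subgroup
* `ns_or_threeStep` : such a group satisfies `NS p` or is a three-step group
* `threeStep_not_ns` : a three-step group does not satisfy `NS p`
-/
import Cfsg.Agent.EqLemmas
import Cfsg.Agent.Lib.CN.Basic
import Cfsg.Agent.S1483
import Cfsg.Agent.Lib.Frobenius.Structure
import Cfsg.Agent.Lib.Cores.Fitting
import Cfsg.Agent.Lib.Solvable.Fitting
import Cfsg.Agent.Lib.Solvable.SchurZassenhaus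
import Cfsg.Agent.Lib.Transfer.Residual
import Cfsg.Agent.Lib.BSW.Local

set_option autoImplicit false
open Cfsg
open scoped Pointwise

namespace Cfsg.Agent.CN

variable {G : Type*} [Group G] {p : ℕ}

/-- Every `p`-element lies in the largest normal `p`-subgroup. -/
def NS (p : ℕ) (G : Type*) [Group G] : Prop :=
  ∀ x : G, (∃ k : ℕ, orderOf x = p ^ k) → x ∈ pCore p G

theorem NS.sylow_eq [Finite G] [Fact p.Prime] (h : NS p G) (P : Sylow p G) :
    (P : Subgroup G) = pCore p G :=
  le_antisymm (fun x hx => h x (S1483.orderOf_pow_of_isPGroup Fact.out P.isPGroup' hx))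
    (Cores.pCore_le_sylow P)

theorem ns_of_normal_sylow [Finite G] [Fact p.Prime] (P : Sylow p G)
    (hP : (P : Subgroup G).Normal) : NS p G := by
  intro x ⟨k, hk⟩
  obtain ⟨Q, hQ⟩ := (IsPGroup.of_card (n := k)
    (by rw [Nat.card_zpowers, hk]) : IsPGroup p (Subgroup.zpowers x)).exists_le_sylow
  have := Sylow.unique_of_normal P hP
  rw [Cores.pCore_eq_sylow P]
  exact Subsingleton.elim Q P ▸ hQ (Subgroup.mem_zpowers x)

theorem NS.subgroup [Finite G] (h : NS p G) (H : Subgroup G) : NS p H := by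
  intro x ⟨k, hk⟩
  have hle : (pCore p G).subgroupOf H ≤ pCore p H :=
    Cores.le_pCore inferInstance (Cores.isPGroup_pCore p G).comap_subtype
  exact hle (h x ⟨k, by rw [Subgroup.orderOf_coe, hk]⟩)

theorem NS.of_le [Finite G] {H K : Subgroup G} (h : NS p K) (hHK : H ≤ K) : NS p H := by
  intro x ⟨k, hk⟩
  have hle : (pCore p K).comap (Subgroup.inclusion hHK) ≤ pCore p H :=
    Cores.le_pCore inferInstance
      ((Cores.isPGroup_pCore p K).comap_of_injective _ (Subgroup.inclusion_injective hHK))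
  exact hle (h _ ⟨k, by
    rw [orderOf_injective _ (Subgroup.inclusion_injective hHK), hk]⟩)

/-- Commuting in a nilpotent subgroup. -/
theorem commute_of_mem [Finite G] {H : Subgroup G} (hH : Group.IsNilpotent H) {a b : G}
    (ha : a ∈ H) (hb : b ∈ H) (hab : (orderOf a).Coprime (orderOf b)) : Commute a b := by
  have := hH
  have h := commute_of_isNilpotent (a := (⟨a, ha⟩ : H)) (b := ⟨b, hb⟩)
    (by rwa [← Subgroup.orderOf_coe, ← Subgroup.orderOf_coe])
  exact congrArg Subtype.val h.eq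

theorem coprime_of_pgroup [Finite G] [hp : Fact p.Prime] {P : Subgroup G} (hP : IsPGroup p P)
    {x y : G} (hx : x ∈ P) (hy : (orderOf y).Coprime p) : (orderOf x).Coprime (orderOf y) := by
  obtain ⟨k, hk⟩ := S1483.orderOf_pow_of_isPGroup hp.out hP hx
  rw [hk]
  exact (hy.pow_right k).symm

theorem eq_one_of_pgroup [Finite G] [hp : Fact p.Prime] {P : Subgroup G} (hP : IsPGroup p P)
    {x : G} (hx : x ∈ P) (hy : (orderOf x).Coprime p) : x = 1 :=
  orderOf_eq_one_iff.1 (Nat.eq_one_of_dvd_coprimes (coprime_of_pgroup hP hx hy) dvd_rfl dvd_rfl)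

theorem exists_mem_ne_one {H : Subgroup G} (h : H ≠ ⊥) : ∃ x ∈ H, x ≠ 1 := by
  obtain ⟨⟨x, hx⟩, hx1⟩ := H.ne_bot_iff_exists_ne_one.1 h
  exact ⟨x, hx, fun e => hx1 (Subtype.ext e)⟩

section

variable [Finite G] [hp : Fact p.Prime]

/-- A solvable CN-group with `O_p ≠ 1` and no normal Sylow `p`-subgroup has self-centralizing
`O_p`. -/
theorem centralizer_pCore_le [Group.IsSolvable G] (hCN : IsCNGroup G) (hO : pCore p G ≠ ⊥)
    (hns : ¬ NS p G) : Subgroup.centralizer (pCore p G : Set G) ≤ pCore p G := by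
  set F := fittingSubgroup G with hF
  have hFn : Group.IsNilpotent F := inferInstance
  have hOF : pCore p G ≤ F := Cores.le_fittingSubgroup inferInstance
    (Cores.isPGroup_pCore p G).isNilpotent
  obtain ⟨x, hx, hx1⟩ := exists_mem_ne_one hO
  have hFp : ∀ y ∈ F, (orderOf y).Coprime p → y = 1 := by
    intro y hy hyc
    by_contra hy1
    apply hns
    set S : Set G := {z | z ∈ F ∧ (orderOf z).Coprime p} with hS
    have hSn : (Subgroup.centralizer S).Normal := ⟨fun c hc g => by
      rw [Subgroup.mem_centralizer_iff] at hc ⊢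
      intro z hz
      have hz' : g⁻¹ * z * g ∈ S := by
        refine ⟨by simpa using (inferInstance : F.Normal).conj_mem z hz.1 g⁻¹, ?_⟩
        have e : orderOf (g⁻¹ * z * g) = orderOf z := by
          simpa using S1483.orderOf_conj' g⁻¹ z
        rw [e]; exact hz.2
      have h1 := congrArg (fun w => g * w * g⁻¹) (hc _ hz')
      simpa [mul_assoc] using h1⟩
    have hSnil : Group.IsNilpotent (Subgroup.centralizer S) :=
      Cores.isNilpotent_of_le (Subgroup.centralizer_le (Set.singleton_subset_iff.2 ⟨hy, hyc⟩))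
        (hCN y hy1)
    intro u ⟨k, hk⟩
    obtain ⟨P, hP⟩ := (IsPGroup.of_card (n := k)
      (by rw [Nat.card_zpowers, hk]) : IsPGroup p (Subgroup.zpowers u)).exists_le_sylow
    have hxP : x ∈ (P : Subgroup G) := Cores.pCore_le_sylow P hx
    have hPS : (P : Subgroup G) ≤ Subgroup.centralizer S := fun v hv =>
      Subgroup.mem_centralizer_iff.2 fun z hz =>
        (S1483.commute_sylow hCN P hxP hx1 hz.2 (commute_of_mem hFn hz.1 (hOF hx)
          ((coprime_of_pgroup (Cores.isPGroup_pCore p G) hx hz.2).symm)) v hv).eq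
    have hle : Subgroup.centralizer S ≤ F := Cores.le_fittingSubgroup hSn hSnil
    obtain ⟨P₀⟩ : Nonempty (Sylow p F) := inferInstance
    have hP₀n : (P₀ : Subgroup F).Normal :=
      ((Group.isNilpotent_of_finite_tfae (G := F)).out 0 3 rfl rfl).mp hFn p hp P₀
    have : (P₀ : Subgroup F).Characteristic := Sylow.characteristic_of_normal P₀ hP₀n
    have hu : (P : Subgroup G).subgroupOf F ≤ P₀ := by
      obtain ⟨Q, hQ⟩ := (P.isPGroup'.comap_subtype (K := F)).exists_le_sylow
      have := Sylow.unique_of_normal P₀ hP₀n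
      exact Subsingleton.elim Q P₀ ▸ hQ
    have hmem : u ∈ (P₀ : Subgroup F).map F.subtype :=
      ⟨⟨u, hle (hPS (hP (Subgroup.mem_zpowers u)))⟩, hu (hP (Subgroup.mem_zpowers u)), rfl⟩
    exact Cores.le_pCore (Cores.map_subtype_normal_of_characteristic F _)
      (P₀.isPGroup'.map _) hmem
  have hFO : F = pCore p G := by
    refine le_antisymm (Cores.le_pCore inferInstance fun g => ?_) hOF
    obtain ⟨a, b, hab, -, hb, ⟨k, hk⟩, hbc⟩ := Transfer.exists_pPart_mul (p := p) (g : G)
    have hbF : b ∈ F := by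
      obtain ⟨i, hi⟩ := Subgroup.mem_zpowers_iff.1 hb
      exact hi ▸ F.zpow_mem g.2 i
    rw [hFp b hbF hbc, mul_one] at hab
    exact ⟨k, Subtype.ext (by rw [SubgroupClass.coe_pow, hab, ← hk, pow_orderOf_eq_one]; rfl)⟩
  rw [← hFO]
  exact Solvable.centralizer_fitting_le G

theorem fpf_pCore (hCN : IsCNGroup G)
    (hC : Subgroup.centralizer (pCore p G : Set G) ≤ pCore p G) {b x : G}
    (hb : (orderOf b).Coprime p) (hb1 : b ≠ 1) (hx : x ∈ pCore p G) (hbx : b * x = x * b) :
    x = 1 := by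
  by_contra hx1
  obtain ⟨P⟩ : Nonempty (Sylow p G) := inferInstance
  have hc := S1483.commute_sylow hCN P (Cores.pCore_le_sylow P hx) hx1 hb hbx
  exact hb1 (eq_one_of_pgroup (Cores.isPGroup_pCore p G)
    (hC (Subgroup.mem_centralizer_iff.2 fun v hv => (hc v (Cores.pCore_le_sylow P hv)).symm.eq)) hb)

/-- A nilpotent group of odd order with a faithful fixed point free action is cyclic. -/
theorem isCyclic_of_smallCyclic {A : Type*} [Group A] [Finite A] (h : Frobenius.SmallCyclic A)
    (hodd : ¬ 2 ∣ Nat.card A) (hA : Group.IsNilpotent A) : IsCyclic A := by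
  have := h.isZGroup_of_odd hodd
  have := hA
  infer_instance

/-- A solvable CN-group with `O_p ≠ 1` has a normal Sylow `p`-subgroup or is a three-step
group. -/
theorem ns_or_threeStep [Group.IsSolvable G] (hCN : IsCNGroup G) (hO : pCore p G ≠ ⊥) :
    NS p G ∨ IsThreeStepGroup p G := by
  by_cases hns : NS p G
  · exact Or.inl hns
  right
  have hC := centralizer_pCore_le hCN hO hns
  set O := pCore p G with hOdef
  have hOp : IsPGroup p O := Cores.isPGroup_pCore p G
  have hpp := hp.out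
  -- the preimage of the Fitting subgroup of `G / O`
  set q := QuotientGroup.mk' O with hq
  set L := (fittingSubgroup (G ⧸ O)).comap q with hL
  have hOL : O ≤ L := by
    intro x hx
    rw [hL, Subgroup.mem_comap, hq, QuotientGroup.mk'_apply, (QuotientGroup.eq_one_iff x).2 hx]
    exact one_mem _
  have hLn : L.Normal := (inferInstance : (fittingSubgroup (G ⧸ O)).Normal).comap q
  have hqL : L.map q = fittingSubgroup (G ⧸ O) :=
    Subgroup.map_comap_eq_self_of_surjective (QuotientGroup.mk'_surjective O) _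
  have hFp' : ¬ p ∣ Nat.card (fittingSubgroup (G ⧸ O)) := by
    intro hd
    have hFn : Group.IsNilpotent (fittingSubgroup (G ⧸ O)) := inferInstance
    obtain ⟨P₀⟩ : Nonempty (Sylow p (fittingSubgroup (G ⧸ O))) := inferInstance
    have hP₀n : (P₀ : Subgroup (fittingSubgroup (G ⧸ O))).Normal :=
      ((Group.isNilpotent_of_finite_tfae (G := fittingSubgroup (G ⧸ O))).out 0 3 rfl rfl).mp
        hFn p hp P₀
    have := Sylow.characteristic_of_normal P₀ hP₀n
    have hle := Cores.le_pCore (Cores.map_subtype_normal_of_characteristic (fittingSubgroup (G ⧸ O))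
      (P₀ : Subgroup _)) (P₀.isPGroup'.map _)
    rw [Cores.pCore_quotient_self, le_bot_iff, Subgroup.map_eq_bot_iff_of_injective _
      (Subgroup.subtype_injective _)] at hle
    exact P₀.ne_bot_of_dvd_card hd hle
  have hcardL : Nat.card L = Nat.card O * Nat.card (fittingSubgroup (G ⧸ O)) := by
    have := Cores.card_map_mul_ker q L (by rw [hq, QuotientGroup.ker_mk']; exact hOL)
    rw [hqL, hq, QuotientGroup.ker_mk'] at this
    rw [← this, mul_comm]
  obtain ⟨n, hn⟩ := hOp.exists_card_eq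
  have hcop : (Nat.card O).Coprime (Nat.card (fittingSubgroup (G ⧸ O))) := by
    rw [hn]; exact ((hpp.coprime_iff_not_dvd).2 hFp').pow_left n
  obtain ⟨A₀, hA₀⟩ := Subgroup.exists_right_complement'_of_coprime (N := O.subgroupOf L) (by
    have hi : (O.subgroupOf L).index = Nat.card (fittingSubgroup (G ⧸ O)) := by
      have h1 := (O.subgroupOf L).card_mul_index
      rw [Cores.card_subgroupOf hOL, hcardL] at h1
      exact Nat.eq_of_mul_eq_mul_left Nat.card_pos h1
    rw [Cores.card_subgroupOf hOL, hi]; exact hcop)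
  set A := A₀.map L.subtype with hA
  have hAL : A ≤ L := Subgroup.map_subtype_le A₀
  have hAcard : Nat.card A = Nat.card (fittingSubgroup (G ⧸ O)) := by
    have := hA₀.card_mul_card
    rw [Cores.card_subgroupOf hOL, hcardL] at this
    rw [hA, Subgroup.card_map_of_injective L.subtype_injective]
    exact Nat.eq_of_mul_eq_mul_left Nat.card_pos this
  have hAp : ∀ a ∈ A, (orderOf a).Coprime p := fun a ha =>
    (Nat.Coprime.coprime_dvd_left (Subgroup.orderOf_dvd_natCard A ha)
      (by rw [hAcard]; exact ((hpp.coprime_iff_not_dvd).2 hFp').symm))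
  have hOAd : ∀ a ∈ A, a ∈ O → a = 1 := fun a ha haO => eq_one_of_pgroup hOp haO (hAp a ha)
  have hOA : O ⊔ A = L := by
    refine Subgroup.eq_of_le_of_card_ge (sup_le hOL hAL) (le_of_eq ?_)
    rw [sup_comm, Solvable.card_sup_of_disjoint A O ?_, hAcard, hcardL, mul_comm]
    rw [Subgroup.eq_bot_iff_forall]
    exact fun a ha => hOAd a ha.1 ha.2
  have hAnil : Group.IsNilpotent A := by
    have hinj : Function.Injective (q.subgroupMap A) := by
      rw [← MonoidHom.ker_eq_bot_iff, Subgroup.eq_bot_iff_forall]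
      intro a ha
      have h1 : q a = 1 := congrArg Subtype.val (MonoidHom.mem_ker.1 ha)
      exact Subtype.ext (hOAd a a.2 ((QuotientGroup.eq_one_iff (a : G)).1 h1))
    have : Group.IsNilpotent (A.map q) :=
      Cores.isNilpotent_of_le ((Subgroup.map_mono hAL).trans hqL.le) inferInstance
    exact Group.nilpotent_of_mulEquiv
      (MulEquiv.ofBijective (q.subgroupMap A) ⟨hinj, q.subgroupMap_surjective A⟩).symm
  -- the normalizer of `A`
  set E := Subgroup.normalizer (A : Set G) with hE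
  have hOE : ∀ x : G, ∃ o ∈ O, ∃ e ∈ E, x = o * e := by
    intro x
    have hsup : A.map (MulAut.conj x).toMonoidHom ⊔ O = A ⊔ O := by
      rw [sup_comm A O, hOA]
      have hO' : O.map (MulAut.conj x).toMonoidHom = O := Subgroup.Normal.map_conj_eq O x
      have hL' : L.map (MulAut.conj x).toMonoidHom = L := Subgroup.Normal.map_conj_eq L x
      calc A.map (MulAut.conj x).toMonoidHom ⊔ O
          = A.map (MulAut.conj x).toMonoidHom ⊔ O.map (MulAut.conj x).toMonoidHom := by rw [hO']
        _ = (A ⊔ O).map (MulAut.conj x).toMonoidHom := (Subgroup.map_sup _ _ _).symm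
        _ = L := by rw [sup_comm, hOA, hL']
    have hcA : (Nat.card A).Coprime (Nat.card O) := by rw [hAcard]; exact hcop.symm
    obtain ⟨o, ho, hoe⟩ := Solvable.exists_conj_of_sup_eq
      (Or.inl (inferInstance : Group.IsSolvable O)) hsup.symm hcA
      (by rwa [Subgroup.card_map_of_injective (MulAut.conj x).injective])
    refine ⟨o, ho, o⁻¹ * x, ?_, by group⟩
    rw [hE, ← Subgroup.inv_mem_iff]
    refine BSW.mem_normalizer_of_conj fun a ha => ?_
    have h1 : o * a * o⁻¹ ∈ A.map (MulAut.conj x).toMonoidHom := by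
      rw [← hoe]; exact ⟨a, ha, rfl⟩
    obtain ⟨b, hb, hbe⟩ := h1
    have hbe' : x * b * x⁻¹ = o * a * o⁻¹ := hbe
    rw [show (o⁻¹ * x)⁻¹ * a * (o⁻¹ * x)⁻¹⁻¹ = x⁻¹ * (o * a * o⁻¹) * x by group, ← hbe']
    simpa [mul_assoc] using hb
  have hAE : A ≤ E := Subgroup.le_normalizer
  -- `A` is not trivial
  have hCA : ∀ e ∈ E, (∀ a ∈ A, e * a = a * e) → e ∈ L := by
    intro e _ hc
    rw [hL, Subgroup.mem_comap]
    refine Solvable.centralizer_fitting_le (G ⧸ O) (Subgroup.mem_centralizer_iff.2 fun v hv => ?_)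
    rw [← hqL, ← hOA, Subgroup.map_sup, hq, QuotientGroup.map_mk'_self, bot_sup_eq] at hv
    obtain ⟨a, ha, rfl⟩ := hv
    rw [← map_mul, ← map_mul, hc a ha]
  have hA1 : A ≠ ⊥ := by
    intro h
    refine hns fun x ⟨k, hk⟩ => ?_
    obtain ⟨o, ho, e, he, rfl⟩ := hOE x
    have : e ∈ O := by
      have hm := hCA e he fun a ha => by
        rw [h, Subgroup.mem_bot] at ha; simp [ha]
      rwa [← hOA, h, sup_bot_eq] at hm
    exact O.mul_mem ho this
  obtain ⟨a₀, ha₀, ha₀1⟩ := exists_mem_ne_one hA1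
  have hOEd : ∀ e ∈ E, e ∈ O → e = 1 := by
    intro e he heO
    refine fpf_pCore hCN hC (hAp a₀ ha₀) ha₀1 heO ?_
    have h1 : e * a₀ * e⁻¹ * a₀⁻¹ = 1 := hOAd _
      (A.mul_mem (BSW.conj_mem_of_mem_normalizer he ha₀) (A.inv_mem ha₀))
      (by rw [show e * a₀ * e⁻¹ * a₀⁻¹ = e * (a₀ * e⁻¹ * a₀⁻¹) by group]
          exact O.mul_mem heO ((inferInstance : O.Normal).conj_mem _ (O.inv_mem heO) a₀))
    rw [mul_inv_eq_one, mul_inv_eq_iff_eq_mul] at h1
    exact h1.symm
  have hmemA : ∀ e ∈ E, e ∈ L → e ∈ A := by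
    intro e he heL
    have hm : e ∈ ((O ⊔ A : Subgroup G) : Set G) := by rw [hOA]; exact heL
    rw [Subgroup.normal_mul] at hm
    obtain ⟨o, ho, a, ha, rfl⟩ := hm
    have : o = 1 := hOEd o (by simpa using E.mul_mem he (E.inv_mem (hAE ha))) ho
    simpa [this] using ha
  have hCAA : ∀ e ∈ E, (∀ a ∈ A, e * a = a * e) → e ∈ A := fun e he hc => hmemA e he (hCA e he hc)
  have hOne : O ≠ ⊥ := hO
  -- there are no involutions in `E`
  have hEodd : ∀ u ∈ E, orderOf u = 2 → p = 2 := by
    intro u hu hu2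
    by_contra hp2
    have huc : ∀ v : G, orderOf v = 2 → (orderOf v).Coprime p := fun v hv => by
      rw [hv]; exact (Nat.coprime_primes Nat.prime_two hpp).2 (Ne.symm hp2)
    have hinv : ∀ v : G, orderOf v = 2 → ∀ o ∈ O, v * o * v⁻¹ = o⁻¹ := fun v hv =>
      (BSW.inverts_of_free O (Involution.mul_self hv)
        (fun o ho => (inferInstance : O.Normal).conj_mem o ho v)
        (fun o ho hc => fpf_pCore hCN hC (huc v hv) (Involution.ne_one hv) ho hc)).1
    have hcent : ∀ e ∈ E, e * u = u * e := by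
      intro e he
      set v := e * u * e⁻¹ with hv
      have hv2 : orderOf v = 2 := by rw [hv, Involution.orderOf_conj, hu2]
      have hm : u * v = 1 := by
        refine hOEd _ (E.mul_mem hu (E.mul_mem (E.mul_mem he hu) (E.inv_mem he)))
          (hC (Subgroup.mem_centralizer_iff.2 fun o ho => ?_))
        have h1 : u * v * o * (u * v)⁻¹ = o := by
          rw [show u * v * o * (u * v)⁻¹ = u * (v * o * v⁻¹) * u⁻¹ by group, hinv v hv2 o ho,
            hinv u hu2 _ (O.inv_mem ho), inv_inv]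
        exact (mul_inv_eq_iff_eq_mul.1 h1).symm
      have h2 : v = u := by rw [eq_inv_of_mul_eq_one_right hm, Involution.inv_eq hu2]
      exact mul_inv_eq_iff_eq_mul.1 h2
    have huA : u ∈ A := hCAA u hu fun a ha => (hcent a (hAE ha)).symm
    -- `E` is nilpotent, so it equals `A`
    have hEnil : Group.IsNilpotent E := Cores.isNilpotent_of_le
      (fun e he => Subgroup.mem_centralizer_singleton_iff.2 (hcent e he))
      (hCN u (Involution.ne_one hu2))
    have hFG : (fittingSubgroup (G ⧸ O)) = ⊤ := by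
      have hsurj : Function.Surjective (q.comp E.subtype) := fun z => by
        obtain ⟨x, rfl⟩ := QuotientGroup.mk'_surjective O z
        obtain ⟨o, ho, e, he, rfl⟩ := hOE x
        refine ⟨⟨e, he⟩, ?_⟩
        show q e = q (o * e)
        rw [map_mul, show q o = 1 from (QuotientGroup.eq_one_iff o).2 ho, one_mul]
      have := Group.nilpotent_of_surjective _ hsurj
      exact eq_top_iff.2 (Cores.le_fittingSubgroup inferInstance
        (Group.nilpotent_of_mulEquiv Subgroup.topEquiv.symm))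
    refine hns fun x ⟨k, hk⟩ => ?_
    by_contra hxO
    have hd : orderOf (q x) ∣ Nat.card (fittingSubgroup (G ⧸ O)) := by
      refine Subgroup.orderOf_dvd_natCard _ ?_
      rw [hFG]; trivial
    obtain ⟨j, -, hj⟩ := (Nat.dvd_prime_pow hpp).1 (hk ▸ orderOf_map_dvd q x)
    rw [hj] at hd
    rcases Nat.eq_zero_or_pos j with rfl | hjp
    · rw [pow_zero, orderOf_eq_one_iff] at hj
      exact hxO ((QuotientGroup.eq_one_iff x).1 hj)
    · exact hFp' ((dvd_pow_self p hjp.ne').trans hd)
  have hsmall : ∀ B : Subgroup G, A ≤ B → B ≤ E → ¬ p ∣ Nat.card B →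
      IsCyclic B := by
    intro B hAB hBE hpB
    have hBp : ∀ b ∈ B, (orderOf b).Coprime p := fun b hb =>
      Nat.Coprime.coprime_dvd_left (Subgroup.orderOf_dvd_natCard B hb)
        ((hpp.coprime_iff_not_dvd).2 hpB).symm
    have hsc : Frobenius.SmallCyclic B := Frobenius.smallCyclic_of_fpf hOne
      (by rw [Subgroup.normalizer_eq_top]; exact le_top)
      (fun b hb hb1 o ho hbo => fpf_pCore hCN hC (hBp b hb) hb1 ho hbo)
    have hodd : ¬ 2 ∣ Nat.card B := by
      intro h2
      obtain ⟨u, hu⟩ := exists_prime_orderOf_dvd_card' (G := B) 2 h2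
      rw [← Subgroup.orderOf_coe] at hu
      have := hEodd u (hBE u.2) hu
      subst this
      exact hpB h2
    obtain ⟨a, ha⟩ : ∃ a : B, a ≠ 1 := ⟨⟨a₀, hAB ha₀⟩, fun e => ha₀1 (congrArg Subtype.val e)⟩
    have : Nontrivial B := ⟨⟨a, 1, ha⟩⟩
    obtain ⟨z, hz, hz1⟩ := exists_mem_ne_one hsc.center_ne_bot
    refine isCyclic_of_smallCyclic hsc hodd
      (Cores.isNilpotent_of_le (K := Subgroup.centralizer ({(z : G)} : Set G)) (fun b hb => ?_)
        (hCN _ fun e => hz1 (Subtype.ext e)))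
    exact Subgroup.mem_centralizer_singleton_iff.2
      (congrArg Subtype.val (Subgroup.mem_center_iff.1 hz ⟨b, hb⟩))
  have hpA : ¬ p ∣ Nat.card A := hAcard ▸ hFp'
  have hAcyc : IsCyclic A := hsmall A le_rfl hAE hpA
  have hAodd : Odd (Nat.card A) := by
    rw [← Nat.not_even_iff_odd, even_iff_two_dvd]
    intro h2
    obtain ⟨u, hu⟩ := exists_prime_orderOf_dvd_card' (G := A) 2 h2
    rw [← Subgroup.orderOf_coe] at hu
    have := hEodd u (hAE u.2) hu
    subst this
    exact hpA h2
  have hAcomm : ∀ a ∈ A, ∀ b ∈ A, a * b = b * a := fun a ha b hb => by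
    have := hAcyc.isMulCommutative
    exact congrArg Subtype.val (mul_comm' (⟨a, ha⟩ : A) ⟨b, hb⟩)
  have hp'mem : ∀ e ∈ E, (orderOf e).Coprime p → e ∈ A := by
    intro e he hec
    set B := Subgroup.zpowers e ⊔ A with hB
    have hBE : B ≤ E := sup_le (Subgroup.zpowers_le.2 he) hAE
    have hpB : ¬ p ∣ Nat.card B := by
      have hAn : (A.subgroupOf B).Normal :=
        (Subgroup.normal_subgroupOf_iff_le_normalizer le_sup_right).2 hBE
      have hd := Cores.card_sup_dvd ((Subgroup.zpowers e).subgroupOf B) (A.subgroupOf B)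
      rw [← Subgroup.subgroupOf_sup le_sup_left le_sup_right, Subgroup.subgroupOf_self,
        Subgroup.card_top, Cores.card_subgroupOf le_sup_left, Cores.card_subgroupOf le_sup_right,
        Nat.card_zpowers] at hd
      intro hpd
      rcases hpp.dvd_mul.1 (hpd.trans hd) with h | h
      · exact hpp.one_lt.ne' (Nat.eq_one_of_dvd_coprimes hec h dvd_rfl)
      · exact hpA h
    have := hsmall B le_sup_right hBE hpB
    have := IsCyclic.isMulCommutative (α := B)
    exact hCAA e he fun a ha => congrArg Subtype.val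
      (mul_comm' (⟨e, Subgroup.mem_sup_left (Subgroup.mem_zpowers e)⟩ : B)
        ⟨a, Subgroup.mem_sup_right ha⟩)
  have hppow : ∀ x : G, ∃ k : ℕ, x ^ p ^ k ∈ L := by
    intro x
    obtain ⟨o, ho, e, he, rfl⟩ := hOE x
    obtain ⟨a, b, hab, ha, hb, ⟨k, hk⟩, hbc⟩ := Transfer.exists_pPart_mul (p := p) e
    refine ⟨k, ?_⟩
    have hbE : b ∈ E := (Subgroup.zpowers_le.2 he) hb
    have hab' : Commute a b := by
      obtain ⟨i, rfl⟩ := Subgroup.mem_zpowers_iff.1 ha
      obtain ⟨j, rfl⟩ := Subgroup.mem_zpowers_iff.1 hb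
      exact Commute.zpow_zpow (Commute.refl e) i j
    have h2 : q ((o * e) ^ p ^ k) ∈ fittingSubgroup (G ⧸ O) := by
      rw [map_pow, map_mul, show q o = 1 from (QuotientGroup.eq_one_iff o).2 ho, one_mul,
        ← map_pow, hab, hab'.mul_pow, ← hk, pow_orderOf_eq_one, one_mul, map_pow]
      exact Subgroup.pow_mem _ (hqL ▸ Subgroup.mem_map_of_mem q (hAL (hp'mem b hbE hbc))) _
    exact h2
  refine ⟨hO, A, hA1, hAcyc, hAodd, (Nat.Coprime.symm ((hpp.coprime_iff_not_dvd).2 hpA)),
    hOA ▸ hLn, ?_, ?_, ?_, ?_⟩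
  · rw [hOA]
    intro htop
    refine hns fun x ⟨k, hk⟩ => ?_
    have hd : orderOf (q x) ∣ Nat.card (fittingSubgroup (G ⧸ O)) :=
      Subgroup.orderOf_dvd_natCard _ (hqL ▸ Subgroup.mem_map_of_mem q (htop ▸ Subgroup.mem_top x))
    obtain ⟨j, -, hj⟩ := (Nat.dvd_prime_pow hpp).1 (hk ▸ orderOf_map_dvd q x)
    rw [hj] at hd
    rcases Nat.eq_zero_or_pos j with rfl | hjp
    · rw [pow_zero, orderOf_eq_one_iff] at hj
      exact (QuotientGroup.eq_one_iff x).1 hj
    · exact absurd ((dvd_pow_self p hjp.ne').trans hd) hFp'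
  · rw [hOA]
    have hG : IsPGroup p (G ⧸ L) := by
      intro z
      obtain ⟨x, rfl⟩ := QuotientGroup.mk'_surjective L z
      obtain ⟨k, hk⟩ := hppow x
      exact ⟨k, by rw [← map_pow]; exact (QuotientGroup.eq_one_iff _).2 hk⟩
    obtain ⟨m, hm⟩ := hG.exists_card_eq
    exact ⟨m, by rw [Subgroup.index_eq_card]; exact hm⟩
  · intro a ha ha1
    rw [Subgroup.eq_bot_iff_forall]
    rintro x ⟨hxO, hxc⟩
    exact fpf_pCore hCN hC (hAp a ha) ha1 hxO (Subgroup.mem_centralizer_singleton_iff.1 hxc).symm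
  · intro x hx a ha ha1 hxa
    apply hx
    rw [hOA]
    obtain ⟨o, ho, e, he, rfl⟩ := hOE x
    have hea : e * a = a * e := by
      have h1 : e * a * e⁻¹ * a⁻¹ ∈ O := by
        rw [← QuotientGroup.eq_one_iff] at hxa ⊢
        change q _ = 1 at hxa ⊢
        simpa [map_mul, map_inv, show q o = 1 from (QuotientGroup.eq_one_iff o).2 ho] using hxa
      have h2 := hOAd _ (A.mul_mem (BSW.conj_mem_of_mem_normalizer he ha) (A.inv_mem ha)) h1
      rwa [mul_inv_eq_one, mul_inv_eq_iff_eq_mul] at h2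
    obtain ⟨a', b, hab, ha', hb, ⟨k, hk⟩, hbc⟩ := Transfer.exists_pPart_mul (p := p) e
    have hbA : b ∈ A := hp'mem b ((Subgroup.zpowers_le.2 he) hb) hbc
    have ha'a : Commute a' a := by
      obtain ⟨i, rfl⟩ := Subgroup.mem_zpowers_iff.1 ha'
      exact Commute.zpow_left hea i
    have ha'A : a' ∈ A := hCAA a' ((Subgroup.zpowers_le.2 he) ha') fun c hc =>
      commute_in_centralizer hCN ha1 ha'a (hAcomm c hc a ha)
        (by rw [hk]; exact ((hAp c hc).pow_right k).symm)
    rw [← hOA, hab]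
    exact Subgroup.mul_mem _ (Subgroup.mem_sup_left ho) (Subgroup.mem_sup_right (A.mul_mem ha'A hbA))

theorem threeStep_not_ns (h : IsThreeStepGroup p G) : ¬ NS p G := by
  intro hns
  obtain ⟨-, A, -, -, -, -, -, hne, ⟨n, hn⟩, -, -⟩ := h
  obtain ⟨P⟩ : Nonempty (Sylow p G) := inferInstance
  have hndvd : ¬ p ∣ (pCore p G).index := hns.sylow_eq P ▸ P.not_dvd_index
  rcases Nat.eq_zero_or_pos n with rfl | hnp
  · exact hne (Subgroup.index_eq_one.1 (by simpa using hn))
  · exact hndvd ((dvd_pow_self p hnp.ne').trans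
      (hn ▸ Subgroup.index_dvd_of_le le_sup_left))

end

end Cfsg.Agent.CN
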