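/-
Maximal nilpotent subgroups of CN-groups.

* `exists_maximal_nilpotent`, `maximal_sylow`, `maximal_coprime_index`
* `ti_of_not_isPrimePow`, `centralizer_le_of_ti`
-/
import Cfsg.Agent.Lib.CN.ThreeStep

set_option autoImplicit false
open Cfsg

namespace Cfsg.Agent.CN

variable {G : Type*} [Group G] [Finite G] {p : ℕ} [hp : Fact p.Prime]

omit hp in
/-- A maximal nilpotent subgroup. -/
def IsMaxNilpotent (H : Subgroup G) : Prop :=
  Group.IsNilpotent H ∧ ∀ L : Subgroup G, Group.IsNilpotent L → H ≤ L → L = H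

omit hp in
theorem exists_maximal_nilpotent {A : Subgroup G} (hA : Group.IsNilpotent A) :
    ∃ H : Subgroup G, A ≤ H ∧ IsMaxNilpotent H := by
  obtain ⟨H, hAH, hH⟩ := Finite.exists_le_maximal (α := Subgroup G)
    (p := fun L => Group.IsNilpotent L) (a := A) hA
  exact ⟨H, hAH, hH.prop, fun L hL hHL => le_antisymm (hH.le_of_ge hL hHL) hHL⟩

/-- A `p`-element of a nilpotent subgroup lies in each Sylow subgroup of the group it contains. -/
theorem mem_sylow_of_mem {H : Subgroup G} (hH : Group.IsNilpotent H) (P : Sylow p G)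
    (hPH : (P : Subgroup G) ≤ H) {R : Subgroup G} (hRH : R ≤ H) (hR : IsPGroup p R) :
    R ≤ (P : Subgroup G) := by
  have hn : ((P.subtype hPH) : Subgroup H).Normal :=
    ((Group.isNilpotent_of_finite_tfae (G := H)).out 0 3 rfl rfl).mp hH p hp _
  obtain ⟨Q, hQ⟩ := (hR.comap_subtype (K := H)).exists_le_sylow
  have := Sylow.unique_of_normal _ hn
  intro x hx
  have : (⟨x, hRH hx⟩ : H) ∈ ((P.subtype hPH) : Subgroup H) :=
    Subsingleton.elim Q (P.subtype hPH) ▸ hQ (x := ⟨x, hRH hx⟩) hx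
  exact this

theorem mem_sylow_of_orderOf {H : Subgroup G} (hH : Group.IsNilpotent H) (P : Sylow p G)
    (hPH : (P : Subgroup G) ≤ H) {x : G} (hx : x ∈ H) {k : ℕ} (hk : orderOf x = p ^ k) :
    x ∈ (P : Subgroup G) :=
  mem_sylow_of_mem hH P hPH (Subgroup.zpowers_le.2 hx)
    (IsPGroup.of_card (n := k) (by rw [Nat.card_zpowers, hk])) (Subgroup.mem_zpowers x)

/-- A maximal nilpotent subgroup contains a Sylow subgroup for each prime divisor of its order,
and is the centralizer of each central element of that subgroup. -/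
theorem maximal_sylow (hCN : IsCNGroup G) {H : Subgroup G} (hH : IsMaxNilpotent H)
    (hd : p ∣ Nat.card H) :
    ∃ P : Sylow p G, (P : Subgroup G) ≤ H ∧ (∃ z ∈ (P : Subgroup G), z ≠ 1 ∧
      ∀ u ∈ (P : Subgroup G), Commute u z) ∧ ∀ z ∈ (P : Subgroup G), z ≠ 1 →
      (∀ u ∈ (P : Subgroup G), Commute u z) → H = Subgroup.centralizer ({z} : Set G) := by
  obtain ⟨P, ⟨x, hx, hx1⟩, hP⟩ := S1483.maximal_eq_centralizer hCN hH.1 hH.2 hd
  obtain ⟨z, hz, hz1, hzc⟩ := S1483.exists_central P hx hx1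
  refine ⟨P, fun u hu => ?_, ⟨z, hz, hz1, hzc⟩, hP⟩
  rw [hP z hz hz1 hzc]
  exact Subgroup.mem_centralizer_singleton_iff.2 (hzc u hu).eq

theorem maximal_index_not_dvd (hCN : IsCNGroup G) {H : Subgroup G} (hH : IsMaxNilpotent H)
    (hd : p ∣ Nat.card H) : ¬ p ∣ H.index := fun h => by
  obtain ⟨P, hPH, -, -⟩ := maximal_sylow hCN hH hd
  exact P.not_dvd_index (h.trans (Subgroup.index_dvd_of_le hPH))

omit hp in
theorem maximal_coprime_index (hCN : IsCNGroup G) {H : Subgroup G} (hH : IsMaxNilpotent H) :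
    (Nat.card H).Coprime H.index := by
  refine Nat.coprime_of_dvd fun q hq hd => ?_
  have := Fact.mk hq
  exact maximal_index_not_dvd hCN hH hd

omit hp in
theorem exists_prime_power_elem {x : G} (hx : x ≠ 1) :
    ∃ r k : ℕ, r.Prime ∧ orderOf (x ^ k) = r := by
  obtain ⟨r, hr, hrd⟩ := Nat.exists_prime_and_dvd (n := orderOf x)
    (fun h => hx (orderOf_eq_one_iff.1 h))
  exact ⟨r, orderOf x / r, hr, orderOf_pow_orderOf_div (orderOf_pos x).ne' hrd⟩

omit hp [Finite G] in
theorem mem_map_conj {H : Subgroup G} {g x : G} :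
    x ∈ H.map (MulAut.conj g).toMonoidHom ↔ g⁻¹ * x * g ∈ H := by
  rw [Subgroup.mem_map_equiv]; simp

omit hp in
/-- A maximal nilpotent subgroup whose order is not a prime power is a TI subgroup. -/
theorem ti_of_not_isPrimePow (hCN : IsCNGroup G) {H : Subgroup G} (hH : IsMaxNilpotent H)
    (hnp : ¬ IsPrimePow (Nat.card H)) {g : G} (hg : H.map (MulAut.conj g).toMonoidHom ≠ H) :
    H ⊓ H.map (MulAut.conj g).toMonoidHom = ⊥ := by
  rw [Subgroup.eq_bot_iff_forall]
  intro x hx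
  by_contra hx1
  obtain ⟨r, k, hr, hk⟩ := exists_prime_power_elem hx1
  have := Fact.mk hr
  set y := x ^ k with hy
  have hy2 := Subgroup.pow_mem _ hx k
  have hy1 : y ≠ 1 := fun e => by rw [e, orderOf_one] at hk; exact hr.one_lt.ne hk
  have hrd : r ∣ Nat.card H := hk ▸ Subgroup.orderOf_dvd_natCard H hy2.1
  obtain ⟨q, hq, hqd, hqr⟩ : ∃ q, q.Prime ∧ q ∣ Nat.card H ∧ q ≠ r := by
    by_contra! hall
    exact hnp ⟨r, (Nat.card H).factorization r, hr.prime,
      hr.factorization_pos_of_dvd Nat.card_pos.ne' hrd,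
      (Nat.eq_prime_pow_of_unique_prime_dvd Nat.card_pos.ne' fun {d} hd hdd =>
        hall d hd hdd).symm ▸ by rw [Nat.factorization_pow]; simp [hr.factorization_self]⟩
  have := Fact.mk hq
  obtain ⟨P, hPH, -, -⟩ := maximal_sylow hCN hH hrd
  obtain ⟨Q, hQH, ⟨z, hz, hz1, hzc⟩, hQ⟩ := maximal_sylow hCN hH hqd
  have hco : ∀ u ∈ (Q : Subgroup G), (orderOf u).Coprime (orderOf y) := fun u hu => by
    obtain ⟨j, hj⟩ := S1483.orderOf_pow_of_isPGroup hq Q.isPGroup' hu
    rw [hj, hk]; exact ((Nat.coprime_primes hq hr).2 hqr).pow_left j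
  have hQC : (Q : Subgroup G) ≤ Subgroup.centralizer ({y} : Set G) := fun u hu =>
    Subgroup.mem_centralizer_singleton_iff.2 (commute_of_mem hH.1 (hQH hu) hy2.1 (hco u hu)).eq
  have hgQ : ∀ u ∈ (Q : Subgroup G), g * u * g⁻¹ ∈ (Q : Subgroup G) := by
    intro u hu
    have hy' := mem_map_conj.1 hy2.2
    have h1 : Commute u (g⁻¹ * y * g) := commute_of_mem hH.1 (hQH hu) hy' (by
      rw [show g⁻¹ * y * g = g⁻¹ * y * g⁻¹⁻¹ by group, S1483.orderOf_conj']; exact hco u hu)
    have h2 := S1483.conj_commute g h1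
    rw [show g * (g⁻¹ * y * g) * g⁻¹ = y by group] at h2
    obtain ⟨j, hj⟩ := S1483.orderOf_pow_of_isPGroup hq Q.isPGroup' hu
    exact mem_sylow_of_orderOf (hCN y hy1) Q hQC
      (Subgroup.mem_centralizer_singleton_iff.2 h2.eq) (k := j)
      (by rw [S1483.orderOf_conj', hj])
  have hz' := hgQ z hz
  have hgQ' : ∀ u ∈ (Q : Subgroup G), g⁻¹ * u * g ∈ (Q : Subgroup G) := by
    intro u hu
    have hn := BSW.mem_normalizer_of_conj hgQ
    exact (Subgroup.mem_normalizer_iff''.1 hn u).1 hu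
  have hzc' : ∀ u ∈ (Q : Subgroup G), Commute u (g * z * g⁻¹) := by
    intro u hu
    have := S1483.conj_commute g (hzc _ (hgQ' u hu))
    rwa [show g * (g⁻¹ * u * g) * g⁻¹ = u by group] at this
  apply hg
  have e1 := hQ z hz hz1 hzc
  have e2 := hQ _ hz' (fun e => hz1 (conj_eq_one_iff.1 e)) hzc'
  ext w
  rw [mem_map_conj]
  conv_lhs => rw [e1]
  conv_rhs => rw [e2]
  rw [Subgroup.mem_centralizer_singleton_iff, Subgroup.mem_centralizer_singleton_iff]
  constructor
  · intro h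
    have := S1483.conj_commute g (show Commute (g⁻¹ * w * g) z from h)
    rw [show g * (g⁻¹ * w * g) * g⁻¹ = w by group] at this
    exact this.eq
  · intro h
    have := S1483.conj_commute g⁻¹ (show Commute w (g * z * g⁻¹) from h)
    rw [show g⁻¹ * (g * z * g⁻¹) * g⁻¹⁻¹ = z by group,
      show g⁻¹ * w * g⁻¹⁻¹ = g⁻¹ * w * g by group] at this
    exact this.eq

omit hp in
/-- A maximal nilpotent TI subgroup contains the centralizers of its non-identity elements. -/
theorem centralizer_le_of_ti (hCN : IsCNGroup G) {H : Subgroup G} (hH : IsMaxNilpotent H)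
    (hti : ∀ g : G, H.map (MulAut.conj g).toMonoidHom ≠ H →
      H ⊓ H.map (MulAut.conj g).toMonoidHom = ⊥) {x : G} (hx : x ∈ H) (hx1 : x ≠ 1) :
    Subgroup.centralizer ({x} : Set G) ≤ H := by
  intro u hu
  rw [Subgroup.mem_centralizer_singleton_iff] at hu
  have hN : H.map (MulAut.conj u).toMonoidHom = H := by
    by_contra hne
    have : x ∈ H ⊓ H.map (MulAut.conj u).toMonoidHom := ⟨hx, mem_map_conj.2 (by
      rw [mul_assoc, ← hu, inv_mul_cancel_left]; exact hx)⟩
    rw [hti u hne] at this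
    exact hx1 (Subgroup.mem_bot.1 this)
  have hconj : ∀ a ∈ H, u * a * u⁻¹ ∈ H := fun a ha => by
    have : u * a * u⁻¹ ∈ H.map (MulAut.conj u).toMonoidHom := ⟨a, ha, rfl⟩
    rwa [hN] at this
  obtain ⟨r, k, hr, hk⟩ := exists_prime_power_elem hx1
  have := Fact.mk hr
  set y := x ^ k with hy
  have hyH : y ∈ H := H.pow_mem hx k
  have hy1 : y ≠ 1 := fun e => by rw [e, orderOf_one] at hk; exact hr.one_lt.ne hk
  obtain ⟨P, hPH, ⟨z, hz, hz1, hzc⟩, hP⟩ :=
    maximal_sylow (p := r) hCN hH (hk ▸ Subgroup.orderOf_dvd_natCard H hyH)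
  have hyP : y ∈ (P : Subgroup G) := mem_sylow_of_orderOf hH.1 P hPH hyH (k := 1) (by rw [hk, pow_one])
  have huP : u ∈ Subgroup.normalizer ((P : Subgroup G) : Set G) :=
    BSW.mem_normalizer_of_conj fun a ha => by
      obtain ⟨j, hj⟩ := S1483.orderOf_pow_of_isPGroup hr P.isPGroup' ha
      exact mem_sylow_of_orderOf hH.1 P hPH (hconj a (hPH ha)) (k := j)
        (by rw [S1483.orderOf_conj', hj])
  obtain ⟨a, b, hab, ha, hb, ⟨j, hj⟩, hbc⟩ := Transfer.exists_pPart_mul (p := r) u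
  have haP : a ∈ (P : Subgroup G) := by
    have hp1 : IsPGroup r (Subgroup.zpowers a) := IsPGroup.of_card (n := j) (by
      rw [Nat.card_zpowers, hj])
    have := P.is_maximal' (hp1.to_sup_of_normal_right' P.isPGroup'
      ((Subgroup.zpowers_le.2 ((Subgroup.zpowers_le.2 huP) ha)))) le_sup_right
    rw [← this]
    exact Subgroup.mem_sup_left (Subgroup.mem_zpowers a)
  rw [hab]
  refine H.mul_mem (hPH haP) ?_
  rw [hP z hz hz1 hzc]
  have hby : Commute b y := by
    obtain ⟨i, hi⟩ := Subgroup.mem_zpowers_iff.1 hb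
    rw [← hi]
    exact (Commute.pow_right (show Commute u x from hu) k).zpow_left i
  exact Subgroup.mem_centralizer_singleton_iff.2
    (S1483.commute_sylow hCN P hyP hy1 hbc hby z hz).eq

end Cfsg.Agent.CN
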