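/-
Simple CN-groups are CIT-groups.

* `not_isNilpotent_top` : a nonabelian simple group is not nilpotent
* `isPrimePow_of_even` : a maximal nilpotent subgroup of even order of a simple CN-group is a 2-group
* `cit_of_simple` : in a nonabelian simple CN-group the centraliser of an involution is a 2-group
-/
import Cfsg.Agent.Lib.CN.EvenTI
import Cfsg.Agent.Lib.CN.Maximal

set_option autoImplicit false

open Cfsg

namespace Cfsg.Agent.CN

variable {G : Type*} [Group G] [Finite G] [IsSimpleGroup G]

theorem ne_top_of_isNilpotent (hG : ∃ a b : G, a * b ≠ b * a) {H : Subgroup G}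
    (hH : Group.IsNilpotent H) : H ≠ ⊤ := by
  rintro rfl
  have := hH
  have : Group.IsNilpotent G := Group.nilpotent_of_mulEquiv (Subgroup.topEquiv (G := G))
  obtain ⟨a, b, hab⟩ := hG
  exact hab ((IsSimpleGroup.comm_iff_isSolvable (G := G)).2 inferInstance a b)

theorem isPrimePow_of_even (hG : ∃ a b : G, a * b ≠ b * a) (hCN : IsCNGroup G) {H : Subgroup G}
    (hH : IsMaxNilpotent H) (heven : 2 ∣ Nat.card H) : IsPGroup 2 H := by
  have hpp : IsPrimePow (Nat.card H) := by
    by_contra hnp
    have hti := fun g (hg : H.map (MulAut.conj g).toMonoidHom ≠ H) =>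
      ti_of_not_isPrimePow hCN hH hnp hg
    refine hnp (EvenTI.isPrimePow_card ⟨H, fun x hx hx1 => centralizer_le_of_ti hCN hH hti hx hx1,
      fun g x hx hx1 hgx => ?_, maximal_coprime_index hCN hH, heven, fun hn => ?_, fun M hM hodd => ?_⟩)
    rotate_left
    · rcases hn.eq_bot_or_eq_top with h | h
      · rw [h, Subgroup.card_bot] at heven
        omega
      · exact ne_top_of_isNilpotent hG hH.1 h
    · refine hM.eq_bot_or_eq_top.resolve_right fun h => ?_
      rw [h, Subgroup.card_top] at hodd
      exact (Nat.not_even_iff_odd.2 hodd) (even_iff_two_dvd.2 (heven.trans H.card_subgroup_dvd_card))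
    rw [Subgroup.mem_normalizer_iff_map_conj_eq]
    by_contra hne
    have : g * x * g⁻¹ ∈ H ⊓ H.map (MulAut.conj g).toMonoidHom := ⟨hgx, ⟨x, hx, rfl⟩⟩
    rw [hti g hne, Subgroup.mem_bot, conj_eq_one_iff] at this
    exact hx1 this
  obtain ⟨p, k, hp, hk, hpk⟩ := hpp
  obtain rfl := (Nat.prime_dvd_prime_iff_eq Nat.prime_two hp.nat_prime).1
    (Nat.prime_two.dvd_of_dvd_pow (hpk ▸ heven : 2 ∣ p ^ k))
  exact IsPGroup.of_card hpk.symm

/-- In a nonabelian simple CN-group the centraliser of an involution is a 2-group. -/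
theorem cit_of_simple (hG : ∃ a b : G, a * b ≠ b * a) (hCN : IsCNGroup G) (t : G)
    (ht : orderOf t = 2) : IsPGroup 2 (Subgroup.centralizer ({t} : Set G)) := by
  have ht1 : t ≠ 1 := fun h => by simp [h] at ht
  obtain ⟨H, hle, hH⟩ := exists_maximal_nilpotent (hCN t ht1)
  refine (isPrimePow_of_even hG hCN hH ?_).to_le hle
  rw [← ht]
  exact Subgroup.orderOf_dvd_natCard H (hle (Subgroup.mem_centralizer_singleton_iff.2 rfl))

end Cfsg.Agent.CN
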