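/-
CN-groups with a normal Sylow subgroup.

* `frobenius_of_normal_sylow` : such a group is nilpotent or a Frobenius group over its largest
  normal nilpotent Hall subgroup, with nilpotent complement
* `cyclic_or_quaternion` : the structure of a nilpotent fixed point free group
-/
import Cfsg.Agent.Lib.CN.ThreeStep
import Cfsg.Agent.Lib.OddOrder.TypeP
import Cfsg.Agent.Lib.OddOrder.MaxBasic
import Cfsg.Agent.Lib.PGroup.UniqueOrderP

set_option autoImplicit false
open Cfsg

namespace Cfsg.Agent.CN

variable {G : Type*} [Group G] [Finite G]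

omit [Finite G] in
theorem mem_of_coprime_index (H : Subgroup G) [H.Normal] {x : G}
    (h : (orderOf x).Coprime H.index) : x ∈ H := by
  rw [← QuotientGroup.eq_one_iff, ← orderOf_eq_one_iff]
  exact Nat.eq_one_of_dvd_coprimes h (orderOf_map_dvd (QuotientGroup.mk' H) x)
    (by rw [Subgroup.index_eq_card]; exact orderOf_dvd_natCard _)

theorem fittingHall_nilpotent : Group.IsNilpotent (fittingHall G) :=
  Cores.isNilpotent_of_le (sSup_le fun _ h => Cores.le_fittingSubgroup h.1 h.2.1) inferInstance

theorem sylow_le_fittingHall {p : ℕ} [Fact p.Prime] (P : Sylow p G)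
    (hP : (P : Subgroup G).Normal) : (P : Subgroup G) ≤ fittingHall G :=
  le_sSup ⟨hP, P.isPGroup'.isNilpotent, P.card_coprime_index⟩

theorem fittingHall_sylow_normal {p : ℕ} [hp : Fact p.Prime] (hd : p ∣ Nat.card (fittingHall G))
    (P : Sylow p G) : (P : Subgroup G).Normal ∧ (P : Subgroup G) ≤ fittingHall G := by
  set H := fittingHall G with hH
  have hPH : (P : Subgroup G) ≤ H := fun u hu => mem_of_coprime_index H (by
    obtain ⟨k, hk⟩ := S1483.orderOf_pow_of_isPGroup hp.out P.isPGroup' hu
    rw [hk]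
    exact (Nat.Coprime.coprime_dvd_left hd (OddTypeP.fittingHall_coprime G)).pow_left k)
  refine ⟨?_, hPH⟩
  have hn : ((P.subtype hPH) : Subgroup H).Normal :=
    ((Group.isNilpotent_of_finite_tfae (G := H)).out 0 3 rfl rfl).mp fittingHall_nilpotent p hp _
  have := Sylow.characteristic_of_normal _ hn
  have h := Cores.map_subtype_normal_of_characteristic H ((P.subtype hPH) : Subgroup H)
  rwa [Sylow.coe_subtype, Subgroup.subgroupOf_map_subtype, inf_eq_left.2 hPH] at h

/-- A CN-group with a normal Sylow subgroup is nilpotent or a Frobenius group. -/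
theorem frobenius_of_normal_sylow (hCN : IsCNGroup G) (hnn : ¬ Group.IsNilpotent G) {p : ℕ}
    [Fact p.Prime] (P : Sylow p G) (hP1 : (P : Subgroup G) ≠ ⊥) (hPn : (P : Subgroup G).Normal) :
    fittingHall G ≠ ⊥ ∧ fittingHall G ≠ ⊤ ∧ Group.IsNilpotent (G ⧸ fittingHall G) ∧
      ∃ E : Subgroup G, Subgroup.IsComplement' (fittingHall G) E ∧ IsFrobeniusComplement E ∧
        Frobenius.FPF E (fittingHall G) ∧ Group.IsNilpotent E ∧ Frobenius.SmallCyclic E := by
  set H := fittingHall G with hH
  have hHb : H ≠ ⊥ := fun e => hP1 (le_bot_iff.1 (e ▸ sylow_le_fittingHall P hPn))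
  have hHt : H ≠ ⊤ := fun e => hnn (@Group.nilpotent_of_mulEquiv _ _ _ _ (e ▸ fittingHall_nilpotent) (Subgroup.topEquiv (G := G)))
  have hcop := OddTypeP.fittingHall_coprime G
  obtain ⟨E, hE⟩ := Subgroup.exists_right_complement'_of_coprime (N := H) hcop
  have hEcard : Nat.card E = H.index := hE.symm.index_eq_card.symm
  have hfpf : Frobenius.FPF E H := by
    intro e he he1 h hh heh
    by_contra hh1
    obtain ⟨r, hr, hrd⟩ := Nat.exists_prime_and_dvd (n := orderOf e)
      (fun h => he1 (orderOf_eq_one_iff.1 h))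
    obtain ⟨q, hq, hqd⟩ := Nat.exists_prime_and_dvd (n := orderOf h)
      (fun h' => hh1 (orderOf_eq_one_iff.1 h'))
    have := Fact.mk hr
    have := Fact.mk hq
    have hrH : ¬ r ∣ Nat.card H := fun hd => hr.one_lt.ne' (Nat.eq_one_of_dvd_coprimes hcop hd
      (hEcard ▸ hrd.trans (Subgroup.orderOf_dvd_natCard E he)))
    have hqH : q ∣ Nat.card H := hqd.trans (Subgroup.orderOf_dvd_natCard H hh)
    set e' := e ^ (orderOf e / r) with he'
    set h' := h ^ (orderOf h / q) with hh'
    have heo : orderOf e' = r := orderOf_pow_orderOf_div (orderOf_pos e).ne' hrd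
    have hho : orderOf h' = q := orderOf_pow_orderOf_div (orderOf_pos h).ne' hqd
    have hc : Commute h' e' := (Commute.pow_pow (show Commute e h from heh) _ _).symm
    have hh'1 : h' ≠ 1 := fun e => by rw [e, orderOf_one] at hho; exact hq.one_lt.ne hho
    have he'1 : e' ≠ 1 := fun e => by rw [e, orderOf_one] at heo; exact hr.one_lt.ne heo
    have hne : q ≠ r := fun e => hrH (e ▸ hqH)
    obtain ⟨Q, hQ⟩ := (IsPGroup.of_card (n := 1)
      (by rw [Nat.card_zpowers, hho, pow_one]) : IsPGroup q (Subgroup.zpowers h')).exists_le_sylow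
    obtain ⟨R, hR⟩ := (IsPGroup.of_card (n := 1)
      (by rw [Nat.card_zpowers, heo, pow_one]) : IsPGroup r (Subgroup.zpowers e')).exists_le_sylow
    have hQn := (fittingHall_sylow_normal hqH Q).1
    have hh'Q : h' ∈ (Q : Subgroup G) := hQ (Subgroup.mem_zpowers h')
    set W := Subgroup.centralizer ((Q : Subgroup G) : Set G) with hW
    have hWn : W.Normal := inferInstance
    have hWnil : Group.IsNilpotent W := Cores.isNilpotent_of_le
      (Subgroup.centralizer_le (Set.singleton_subset_iff.2 hh'Q)) (hCN h' hh'1)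
    have hRW : (R : Subgroup G) ≤ W := by
      intro u hu
      have h1 : Commute h' u := S1483.commute_sylow hCN R (hR (Subgroup.mem_zpowers e')) he'1
        (by rw [hho]; exact (Nat.coprime_primes hq hr).2 hne) hc u hu
      have h2 : (orderOf u).Coprime q := by
        obtain ⟨k, hk⟩ := S1483.orderOf_pow_of_isPGroup hr R.isPGroup' hu
        rw [hk]; exact ((Nat.coprime_primes hr hq).2 hne.symm).pow_left k
      exact Subgroup.mem_centralizer_iff.2 fun v hv =>
        (S1483.commute_sylow hCN Q hh'Q hh'1 h2 h1.symm v hv).symm.eq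
    have hn : ((R.subtype hRW) : Subgroup W).Normal :=
      ((Group.isNilpotent_of_finite_tfae (G := W)).out 0 3 rfl rfl).mp hWnil r inferInstance _
    have := Sylow.characteristic_of_normal _ hn
    have hRn := Cores.map_subtype_normal_of_characteristic W ((R.subtype hRW) : Subgroup W)
    rw [Sylow.coe_subtype, Subgroup.subgroupOf_map_subtype, inf_eq_left.2 hRW] at hRn
    refine hrH (heo ▸ Subgroup.orderOf_dvd_natCard H ?_)
    exact sylow_le_fittingHall R hRn (hR (Subgroup.mem_zpowers e'))
  have hEb : E ≠ ⊥ := fun e => hHt (Subgroup.index_eq_one.1 (by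
    rw [← hEcard, e, Subgroup.card_bot]))
  have hsc : Frobenius.SmallCyclic E := Frobenius.smallCyclic_of_fpf hHb
    (by rw [Subgroup.normalizer_eq_top]; exact le_top) hfpf
  have hEn : Group.IsNilpotent E := by
    have : Nontrivial E := E.nontrivial_iff_ne_bot.2 hEb
    obtain ⟨z, hz, hz1⟩ := exists_mem_ne_one hsc.center_ne_bot
    exact Cores.isNilpotent_of_le (K := Subgroup.centralizer ({(z : G)} : Set G))
      (fun b hb => Subgroup.mem_centralizer_singleton_iff.2
        (congrArg Subtype.val (Subgroup.mem_center_iff.1 hz ⟨b, hb⟩)))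
      (hCN _ fun e => hz1 (Subtype.ext e))
  exact ⟨hHb, hHt, Group.nilpotent_of_mulEquiv hE.symm.QuotientMulEquiv.symm, E, hE,
    hfpf.isFrobeniusComplement hE hHb hEb, hfpf, hEn, hsc⟩

/-- A nilpotent subgroup acting fixed point freely is cyclic or is the product of a cyclic group of
odd order and a generalized quaternion group. -/
theorem cyclic_or_quaternion {E : Subgroup G} (hn : Group.IsNilpotent E)
    (h : Frobenius.SmallCyclic E) :
    IsCyclic E ∨ ∃ C Q : Subgroup G, C ⊔ Q = E ∧ (∀ a ∈ C, ∀ b ∈ Q, a * b = b * a) ∧ IsCyclic C ∧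
      Odd (Nat.card C) ∧ ∃ n : ℕ, Nonempty (↥Q ≃* QuaternionGroup (2 ^ n)) := by
  have := Fact.mk Nat.prime_two
  obtain ⟨S⟩ : Nonempty (Sylow 2 E) := inferInstance
  have hpS := PGroup.unique_order_p_cases S.isPGroup' fun x y hx hy => by
    rcases eq_or_ne y 1 with rfl | hy1
    · exact one_mem _
    obtain ⟨i, hi⟩ := Subgroup.mem_zpowers_iff.1 (h.mem_zpowers_of_orderOf_eq S.isPGroup' y.2 x.2
      (by rw [Subgroup.orderOf_coe, orderOf_eq_prime hy hy1]) (by rw [Subgroup.orderOf_coe, hx]))
    exact Subgroup.mem_zpowers_iff.2 ⟨i, Subtype.ext (by simpa using hi)⟩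
  have hSn : (S : Subgroup E).Normal :=
    ((Group.isNilpotent_of_finite_tfae (G := E)).out 0 3 rfl rfl).mp hn 2 inferInstance S
  rcases hpS with hc | ⟨-, n, ⟨f⟩⟩
  · left
    have hz : IsZGroup E := by
      rw [isZGroup_iff]
      intro q hq P
      have := Fact.mk hq
      rcases eq_or_ne q 2 with rfl | hq2
      · have := Sylow.unique_of_normal S hSn
        exact Subsingleton.elim S P ▸ hc
      · exact h.isCyclic_sylow hq2 P
    have := hn
    infer_instance
  · right
    obtain ⟨C, hC⟩ := Subgroup.exists_right_complement'_of_coprime (N := (S : Subgroup E))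
      S.card_coprime_index
    have hCodd : Odd (Nat.card C) := by
      rw [← Nat.not_even_iff_odd, even_iff_two_dvd, ← hC.symm.index_eq_card]
      exact S.not_dvd_index
    have hCc : IsCyclic C := by
      have hscC : Frobenius.SmallCyclic C :=
        h.of_injective (f := C.subtype) C.subtype_injective
      have := hn
      exact isCyclic_of_smallCyclic hscC (fun hd => (Nat.not_even_iff_odd.2 hCodd)
        (even_iff_two_dvd.2 hd)) inferInstance
    refine ⟨C.map E.subtype, (S : Subgroup E).map E.subtype, ?_, ?_, ?_, ?_, n,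
      ⟨((S : Subgroup E).equivMapOfInjective _ E.subtype_injective).symm.trans f⟩⟩
    · rw [← Subgroup.map_sup, hC.symm.sup_eq_top, ← MonoidHom.range_eq_map, Subgroup.range_subtype]
    · rintro _ ⟨a, ha, rfl⟩ _ ⟨b, hb, rfl⟩
      have := hn
      obtain ⟨k, hk⟩ := S1483.orderOf_pow_of_isPGroup Nat.prime_two S.isPGroup' hb
      exact congrArg Subtype.val (commute_of_isNilpotent (a := a) (b := b) (by
        rw [hk]
        exact Nat.Coprime.pow_right k (Nat.Coprime.coprime_dvd_left
          (Subgroup.orderOf_dvd_natCard C ha) (Nat.coprime_two_right.2 hCodd)))).eq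
    · exact (C.equivMapOfInjective E.subtype E.subtype_injective).isCyclic.1 hCc
    · rwa [Subgroup.card_map_of_injective E.subtype_injective]

end Cfsg.Agent.CN
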