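/-
Local structure of minimal simple CN-groups of odd order.

* `Minimal.ns_of_proper` : proper subgroups with `O_p ≠ 1` have a normal Sylow `p`-subgroup
* `Minimal.not_threeStep`
* `Minimal.ti`, `Minimal.normalizer_ne`, `Minimal.exists_of_isCoatom`,
  `Minimal.isCoatom_normalizer`, `Minimal.exists_complement`, `Minimal.fittingHallOf_normalizer`
-/
import Cfsg.Agent.Lib.CN.Maximal
import Cfsg.Agent.Lib.CN.Frob
import Cfsg.Agent.Lib.PStab.ZJControl
import Cfsg.Agent.Lib.PLocal.Functor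
import Cfsg.Agent.Lib.OddStable.Quadratic
import Cfsg.Agent.Lib.Transfer.Focal
import Cfsg.Agent.Lib.Frobenius.Kernel
import Cfsg.Agent.Lib.PGroup.Basic

set_option autoImplicit false
set_option linter.unusedSectionVars false
open Cfsg
open scoped Pointwise

namespace Cfsg.Agent.CN

universe u

variable {G : Type u} [Group G]

theorem isCNGroup_subgroup [Finite G] (hCN : IsCNGroup G) (H : Subgroup G) : IsCNGroup H := by
  intro x hx
  have hne : (x : G) ≠ 1 := fun e => hx (Subtype.ext e)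
  have : Group.IsNilpotent ((Subgroup.centralizer ({x} : Set H)).map H.subtype) :=
    Cores.isNilpotent_of_le (K := Subgroup.centralizer ({(x : G)} : Set G))
      (by
        rintro _ ⟨y, hy, rfl⟩
        exact Subgroup.mem_centralizer_singleton_iff.2
          (congrArg Subtype.val (Subgroup.mem_centralizer_singleton_iff.1 hy)))
      (hCN _ hne)
  exact Group.nilpotent_of_mulEquiv
    ((Subgroup.centralizer ({x} : Set H)).equivMapOfInjective _ H.subtype_injective).symm

theorem le_normalizer_map_of_normal (H : Subgroup G) (N : Subgroup H) [N.Normal] :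
    H ≤ Subgroup.normalizer ((N.map H.subtype : Subgroup G) : Set G) := fun x hx => by
  have h1 := Subgroup.le_normalizer_map (H := N) H.subtype
    ⟨⟨x, hx⟩, by rw [Subgroup.normalizer_eq_top]; trivial, rfl⟩
  exact h1

theorem normalizer_le_normalizer_centerThompson [Finite G] (R : Subgroup G) :
    Subgroup.normalizer (R : Set G) ≤
      Subgroup.normalizer ((centerThompsonAOf R : Subgroup G) : Set G) := fun g hg => by
  rw [Subgroup.mem_normalizer_iff_map_conj_eq] at hg ⊢
  have h := PLocal.map_centerThompsonAOf (MulAut.conj g).toMonoidHom (H := R)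
    (MulAut.conj g).injective.injOn
  rw [show R.map (MulAut.conj g).toMonoidHom = R from hg] at h
  exact h

namespace Minimal

variable [Finite G] (hG : IsMinSimpleOddOrder G)

include hG

theorem not_solvable : ¬ Group.IsSolvable G := fun h => by
  have := hG.2.1
  exact hG.2.2.1 ⟨⟨(IsSimpleGroup.comm_iff_isSolvable (G := G)).2 h⟩⟩

theorem not_isPGroup (p : ℕ) [Fact p.Prime] : ¬ IsPGroup p G := fun h => by
  have := h.isNilpotent
  exact not_solvable hG inferInstance

theorem eq_top_of_normal {N : Subgroup G} (hN : N.Normal) (h : N ≠ ⊥) : N = ⊤ := by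
  have := hG.2.1
  exact hN.eq_bot_or_eq_top.resolve_left h

theorem normalizer_ne_top_of_pGroup {p : ℕ} [Fact p.Prime] {Q : Subgroup G} (hQ : IsPGroup p Q)
    (hQ1 : Q ≠ ⊥) : Subgroup.normalizer (Q : Set G) ≠ ⊤ := fun h => by
  have hn : Q = ⊤ := eq_top_of_normal hG (Subgroup.normalizer_eq_top_iff.1 h) hQ1
  subst hn
  exact not_isPGroup hG p (hQ.of_equiv Subgroup.topEquiv)

theorem commutator_eq_top : commutator G = ⊤ := by
  refine eq_top_of_normal hG inferInstance fun h => ?_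
  refine hG.2.2.1 ⟨⟨fun a b => commutatorElement_eq_one_iff_mul_comm.1 ?_⟩⟩
  rw [← Subgroup.mem_bot, ← h, commutator_def]
  exact Subgroup.commutator_mem_commutator (Subgroup.mem_top a) (Subgroup.mem_top b)

variable (hCN : IsCNGroup G)
include hCN

/-- A proper subgroup with `O_p ≠ 1` has a normal Sylow `p`-subgroup. -/
theorem ns_of_proper {p : ℕ} [hp : Fact p.Prime] {X : Subgroup G} (hX : X ≠ ⊤)
    (hO : pCore p X ≠ ⊥) : NS p X := by
  classical
  by_contra hns
  have hodd := hG.1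
  set S : Set (Subgroup G) := {Q | IsPGroup p Q ∧ Q ≠ ⊥ ∧
    ¬ NS p ↥(Subgroup.normalizer (Q : Set G))}
  have hQ0 : (pCore p X).map X.subtype ∈ S := by
    refine ⟨(Cores.isPGroup_pCore p X).map _, ?_, fun h => hns ?_⟩
    · rwa [Ne, Subgroup.map_eq_bot_iff_of_injective _ X.subtype_injective]
    · exact h.of_le (le_normalizer_map_of_normal X (pCore p X))
  obtain ⟨Q, ⟨hQp, hQ1, hYns⟩, hmax⟩ := Set.exists_max_image S
    (fun Q => (Nat.card ↥(Subgroup.normalizer (Q : Set G))).factorization p) (Set.toFinite _) ⟨_, hQ0⟩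
  have hp2 : p ≠ 2 := by
    rintro rfl
    obtain ⟨k, hk⟩ := hQp.exists_card_eq
    have hd : 2 ∣ Nat.card G := by
      refine dvd_trans ?_ (Subgroup.card_subgroup_dvd_card Q)
      rcases Nat.eq_zero_or_pos k with rfl | hk0
      · exact absurd (Subgroup.eq_bot_of_card_eq Q (by simpa using hk)) hQ1
      · exact hk ▸ dvd_pow_self 2 hk0.ne'
    exact (Nat.not_even_iff_odd.2 hodd) (even_iff_two_dvd.2 hd)
  set Y := Subgroup.normalizer (Q : Set G) with hY
  have hYt : Y ≠ ⊤ := normalizer_ne_top_of_pGroup hG hQp hQ1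
  have := hG.2.2.2 Y hYt
  have hQY : Q ≤ Y := Subgroup.le_normalizer
  have hQO : Q.subgroupOf Y ≤ pCore p Y :=
    Cores.le_pCore Subgroup.normal_in_normalizer (hQp.comap_subtype)
  have hOY : pCore p Y ≠ ⊥ := fun e => hQ1 (by
    rw [e, le_bot_iff, Subgroup.subgroupOf_eq_bot] at hQO
    exact le_bot_iff.1 fun x hx => hQO.le_bot ⟨hx, hQY hx⟩)
  have hC := centralizer_pCore_le (isCNGroup_subgroup hCN Y) hOY hYns
  obtain ⟨R₀⟩ : Nonempty (Sylow p Y) := inferInstance
  set R := (R₀ : Subgroup Y).map Y.subtype with hR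
  set Z := centerThompsonAOf R with hZ
  have hctlY : PStab.Ctl p ↥Y := PStab.ctl hp2 ↥Y
    (OddStable.isNormalizerPStable_of_odd (hodd.of_dvd_nat (Subgroup.card_subgroup_dvd_card Y)) hp2)
  have hYZ : Y ≤ Subgroup.normalizer (Z : Set G) := by
    intro y hy
    have key : (⟨y, hy⟩ : Y) ∈
        Subgroup.normalizer ((centerThompsonAOf (R₀ : Subgroup Y) : Subgroup Y) : Set Y) := by
      obtain ⟨n, hn, hne⟩ := hctlY R₀ (pCore p Y : Set Y) ⟨y, hy⟩ (Cores.pCore_le_sylow R₀)
        (by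
          rintro _ ⟨a, ha, rfl⟩
          exact Cores.pCore_le_sylow R₀ ((inferInstance : (pCore p Y).Normal).conj_mem a ha _))
      have hm : n⁻¹ * (⟨y, hy⟩ : Y) ∈ pCore p Y :=
        hC (Subgroup.mem_centralizer_iff.2 fun a ha => by
          have h1 := hne a ha
          calc a * (n⁻¹ * ⟨y, hy⟩) = n⁻¹ * (n * a * n⁻¹) * ⟨y, hy⟩ := by group
            _ = n⁻¹ * ⟨y, hy⟩ * a := by rw [h1]; group)
      rw [show (⟨y, hy⟩ : Y) = n * (n⁻¹ * ⟨y, hy⟩) by group]
      exact mul_mem hn (normalizer_le_normalizer_centerThompson _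
        (Subgroup.le_normalizer (Cores.pCore_le_sylow R₀ hm)))
    have h1 := Subgroup.le_normalizer_map Y.subtype ⟨_, key, rfl⟩
    rw [PLocal.map_centerThompsonAOf Y.subtype Y.subtype_injective.injOn] at h1
    exact h1
  have hRp : IsPGroup p R := R₀.isPGroup'.map _
  have hQR : Q ≤ R := fun x hx =>
    ⟨⟨x, hQY hx⟩, Cores.pCore_le_sylow R₀ (hQO hx), rfl⟩
  have hZR : Z ≤ R := PStab.centerThompsonAOf_le R
  have hZ1 : Z ≠ ⊥ := by
    have : Nontrivial R := R.nontrivial_iff_ne_bot.2 fun e => hQ1 (le_bot_iff.1 (e ▸ hQR))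
    have := hRp.center_nontrivial
    obtain ⟨z, hz⟩ := exists_ne (1 : Subgroup.center R)
    intro e
    have hm : ((z : R) : G) ∈ Z := PLocal.central_le_centerThompsonAOf
      ⟨(z : R).2, Subgroup.mem_centralizer_iff.2 fun a ha =>
        congrArg Subtype.val (Subgroup.mem_center_iff.1 z.2 ⟨a, ha⟩)⟩
    rw [e, Subgroup.mem_bot] at hm
    exact hz (Subtype.ext (Subtype.ext hm))
  have hZp : IsPGroup p Z := hRp.to_le hZR
  set M := Subgroup.normalizer (Z : Set G) with hM
  have hMns : ¬ NS p M := fun h => hYns (h.of_le hYZ)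
  have hfM := hmax Z ⟨hZp, hZ1, hMns⟩
  have hRM : R ≤ M := (Subgroup.map_subtype_le _).trans hYZ
  -- `R` is a Sylow subgroup of `G`
  obtain ⟨P, hP⟩ := hRp.exists_le_sylow
  have hRP : R = (P : Subgroup G) := by
    by_contra hne
    have hsub : R.subgroupOf (P : Subgroup G) ≠ ⊤ := fun e => hne
      (le_antisymm hP (Subgroup.subgroupOf_eq_top.1 e))
    obtain ⟨g, hg, hgR⟩ := PGroup.exists_mem_normalizer_not_mem P.isPGroup' hsub
    have hgN : (g : G) ∈ Subgroup.normalizer (R : Set G) := by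
      have h1 := Subgroup.le_normalizer_map (P : Subgroup G).subtype ⟨g, hg, rfl⟩
      rwa [Subgroup.subgroupOf_map_subtype, inf_eq_left.2 hP] at h1
    set T := Subgroup.zpowers (g : G) ⊔ R
    have hTp : IsPGroup p T := P.isPGroup'.to_le (sup_le (Subgroup.zpowers_le.2 g.2) hP)
    have hTM : T ≤ M := sup_le
      (Subgroup.zpowers_le.2 (normalizer_le_normalizer_centerThompson R hgN)) hRM
    obtain ⟨i, hi⟩ := hTp.exists_card_eq
    have hlt : Nat.card R < Nat.card T := by
      refine lt_of_le_of_ne (Subgroup.card_le_of_le le_sup_right) fun e => hgR ?_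
      have := Subgroup.eq_of_le_of_card_ge (le_sup_right : R ≤ T) e.ge
      show (g : G) ∈ R
      rw [this]
      exact Subgroup.mem_sup_left (Subgroup.mem_zpowers _)
    have hRc : Nat.card R = p ^ (Nat.card Y).factorization p := by
      rw [hR, Subgroup.card_map_of_injective Y.subtype_injective]
      exact R₀.card_eq_multiplicity
    rw [hRc, hi, Nat.pow_lt_pow_iff_right hp.out.one_lt] at hlt
    have hd := hi ▸ Subgroup.card_dvd_of_le hTM
    rw [hp.out.pow_dvd_iff_le_factorization Nat.card_pos.ne'] at hd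
    simp only [← hM] at hfM
    omega
  have hMt : M ≠ ⊤ := normalizer_ne_top_of_pGroup hG hZp hZ1
  have := hG.2.2.2 M hMt
  have hOM : pCore p M ≠ ⊥ := fun e => hZ1 (by
    have h1 : Z.subgroupOf M ≤ pCore p M :=
      Cores.le_pCore Subgroup.normal_in_normalizer hZp.comap_subtype
    rw [e, le_bot_iff, Subgroup.subgroupOf_eq_bot] at h1
    exact le_bot_iff.1 fun x hx => h1.le_bot ⟨hx, Subgroup.le_normalizer hx⟩)
  rcases ns_or_threeStep (isCNGroup_subgroup hCN M) hOM with h | ⟨-, A, -, -, -, -, hLn, hne, ⟨n, hn⟩, -, -⟩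
  · exact hMns h
  -- fusion is controlled by `M`
  have hPM : (P : Subgroup G) ≤ M := hRP ▸ hRM
  have hctl : PStab.Ctl p G := PStab.ctl hp2 G (OddStable.isNormalizerPStable_of_odd hodd hp2)
  have hfus : ∀ x ∈ (P : Subgroup G), ∀ g : G, g * x * g⁻¹ ∈ (P : Subgroup G) →
      ∃ m ∈ M, m * x * m⁻¹ = g * x * g⁻¹ := by
    intro x hx g hgx
    obtain ⟨m, hm, hme⟩ := hctl P {x} g (Set.singleton_subset_iff.2 hx)
      (by rintro _ ⟨a, rfl, rfl⟩; exact hgx)
    refine ⟨m, ?_, hme x rfl⟩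
    rw [hM, hZ, hRP]
    exact hm
  have hfoc := Transfer.commutator_inf_eq_of_control P M hPM hfus
  rw [commutator_eq_top hG, top_inf_eq] at hfoc
  have hPc : ((P.subtype hPM) : Subgroup M) ≤ commutator M := fun x hx => by
    have h1 : (x : G) ∈ ⁅M, M⁆ ⊓ (P : Subgroup G) := by rw [← hfoc]; exact hx
    have h2 := h1.1
    rw [← Subgroup.map_subtype_commutator M] at h2
    obtain ⟨y, hy, hye⟩ := h2
    exact Subtype.ext hye ▸ hy
  have := hLn
  set L := pCore p M ⊔ A
  have hN : commutator M ⊔ L = ⊤ := by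
    rw [← Subgroup.index_eq_one]
    refine Nat.eq_one_of_dvd_coprimes (a := p ^ n) (b := ((P.subtype hPM) : Subgroup M).index) ?_
      (hn ▸ Subgroup.index_dvd_of_le le_sup_right)
      (Subgroup.index_dvd_of_le (hPc.trans le_sup_left))
    exact ((hp.out.coprime_iff_not_dvd).2 (P.subtype hPM).not_dvd_index).pow_left n
  have : Nontrivial (M ⧸ L) := by
    rw [QuotientGroup.nontrivial_iff]
    exact hne
  refine (Group.IsSolvable.commutator_lt_top_of_nontrivial (M ⧸ L)).ne ?_
  have h2 := congrArg (Subgroup.map (QuotientGroup.mk' L)) hN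
  rw [Subgroup.map_sup, QuotientGroup.map_mk'_self, sup_bot_eq,
    Subgroup.map_top_of_surjective _ (QuotientGroup.mk'_surjective L)] at h2
  rw [← h2, commutator_def, commutator_def, Subgroup.map_commutator,
    Subgroup.map_top_of_surjective _ (QuotientGroup.mk'_surjective L)]

theorem not_threeStep (H : Subgroup G) (p : ℕ) : ¬ IsThreeStepGroup p H := by
  rintro ⟨hO, A, -, -, -, -, -, hne, ⟨n, hn⟩, -, -⟩
  by_cases hH : H = ⊤
  · subst hH
    have hn1 := Subgroup.Normal.map (f := (⊤ : Subgroup G).subtype) (pCore_normal p _)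
      (fun x => ⟨⟨x, trivial⟩, rfl⟩)
    have he := eq_top_of_normal hG hn1 (by
      rwa [Ne, Subgroup.map_eq_bot_iff_of_injective _ (Subgroup.subtype_injective _)])
    refine hne (top_le_iff.1 fun x _ => Subgroup.mem_sup_left ?_)
    have hx : (x : G) ∈ (pCore p ↥(⊤ : Subgroup G)).map (⊤ : Subgroup G).subtype := by
      rw [he]; trivial
    obtain ⟨y, hy, hye⟩ := hx
    exact Subtype.ext hye ▸ hy
  have := hG.2.2.2 H hH
  obtain ⟨r, hr, M, hMn, hM0, hMO, -, hMr, hMe, -⟩ :=
    Solvable.exists_minimal_normal_pGroup hO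
  have := Fact.mk hr
  obtain ⟨x, hx, hx1⟩ := exists_mem_ne_one hM0
  obtain ⟨k, hk⟩ := Cores.isPGroup_pCore p H ⟨x, hMO hx⟩
  have hrp : r ∣ p := by
    have h1 : orderOf x = r := orderOf_eq_prime (hMe x hx) hx1
    have h2 : orderOf x ∣ p ^ k := orderOf_dvd_of_pow_eq_one (by simpa using congrArg Subtype.val hk)
    exact hr.dvd_of_dvd_pow (h1 ▸ h2)
  have hR : pCore r H ≠ ⊥ := fun e => hM0 (le_bot_iff.1 (e ▸ Cores.le_pCore hMn hMr))
  have hns := ns_of_proper hG hCN hH hR
  have hle : pCore r H ≤ pCore p H := Cores.le_pCore inferInstance fun g => by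
    obtain ⟨j, hj⟩ := Cores.isPGroup_pCore r H g
    obtain ⟨c, hc⟩ := pow_dvd_pow_of_dvd hrp j
    exact ⟨j, by rw [hc, pow_mul, hj, one_pow]⟩
  obtain ⟨P⟩ : Nonempty (Sylow r H) := inferInstance
  have hndvd : ¬ r ∣ (pCore r H).index := hns.sylow_eq P ▸ P.not_dvd_index
  rcases Nat.eq_zero_or_pos n with rfl | hnp
  · exact hne (Subgroup.index_eq_one.1 (by simpa using hn))
  · exact hndvd ((hrp.trans (dvd_pow_self p hnp.ne')).trans
      (hn ▸ Subgroup.index_dvd_of_le (hle.trans le_sup_left)))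

omit hCN in
theorem maxNilpotent_ne_bot {H : Subgroup G} (hH : IsMaxNilpotent H) : H ≠ ⊥ := by
  rintro rfl
  have := hG.2.1
  obtain ⟨x, hx⟩ := exists_ne (1 : G)
  have := hH.2 (Subgroup.zpowers x) (by
    letI : CommGroup (Subgroup.zpowers x) := IsCyclic.commGroup
    infer_instance) bot_le
  exact hx (Subgroup.mem_bot.1 (this ▸ Subgroup.mem_zpowers x))

omit hCN in
theorem maxNilpotent_ne_top {H : Subgroup G} (hH : IsMaxNilpotent H) : H ≠ ⊤ := fun e => by
  have := Group.nilpotent_of_mulEquiv (_h := e ▸ hH.1) (Subgroup.topEquiv (G := G))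
  exact not_solvable hG inferInstance

omit hCN in
theorem normalizer_ne_top {H : Subgroup G} (hH : IsMaxNilpotent H) :
    Subgroup.normalizer (H : Set G) ≠ ⊤ := fun e =>
  maxNilpotent_ne_top hG hH
    (eq_top_of_normal hG (Subgroup.normalizer_eq_top_iff.1 e) (maxNilpotent_ne_bot hG hH))

/-- Maximal nilpotent subgroups are TI. -/
theorem ti {H : Subgroup G} (hH : IsMaxNilpotent H) {g₀ : G}
    (hg₀ : H.map (MulAut.conj g₀).toMonoidHom ≠ H) :
    H ⊓ H.map (MulAut.conj g₀).toMonoidHom = ⊥ := by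
  by_cases hpp : IsPrimePow (Nat.card H)
  swap
  · exact ti_of_not_isPrimePow hCN hH hpp hg₀
  by_contra hne
  obtain ⟨r, k, hr, hk, hrk⟩ := hpp
  have hr' : r.Prime := hr.nat_prime
  have := Fact.mk hr'
  have hHr : IsPGroup r H := IsPGroup.of_card hrk.symm
  obtain ⟨P, hPH, -, -⟩ := maximal_sylow (p := r) hCN hH (hrk ▸ dvd_pow_self r hk.ne')
  have hHP : H = (P : Subgroup G) := P.is_maximal' hHr hPH
  obtain ⟨g, ⟨hg, hgne⟩, hmax⟩ := Set.exists_max_image
    {g : G | H.map (MulAut.conj g).toMonoidHom ≠ H ∧ H ⊓ H.map (MulAut.conj g).toMonoidHom ≠ ⊥}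
    (fun g => Nat.card ↥(H ⊓ H.map (MulAut.conj g).toMonoidHom)) (Set.toFinite _) ⟨g₀, hg₀, hne⟩
  set H' := H.map (MulAut.conj g).toMonoidHom with hH'
  set D := H ⊓ H' with hD
  have hDr : IsPGroup r D := hHr.to_le inf_le_left
  set Y := Subgroup.normalizer (D : Set G) with hY
  have hYt : Y ≠ ⊤ := normalizer_ne_top_of_pGroup hG hDr hgne
  have hDY : D ≤ Y := Subgroup.le_normalizer
  have hDO : D.subgroupOf Y ≤ pCore r Y :=
    Cores.le_pCore Subgroup.normal_in_normalizer hDr.comap_subtype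
  have hns := ns_of_proper hG hCN hYt fun e => hgne (by
    rw [e, le_bot_iff, Subgroup.subgroupOf_eq_bot] at hDO
    exact le_bot_iff.1 fun x hx => hDO.le_bot ⟨hx, hDY hx⟩)
  set R := (pCore r Y).map Y.subtype with hR
  have hgrow : ∀ A : Subgroup G, IsPGroup r A → D ≤ A → ¬ A ≤ D → ∃ a ∈ A, a ∉ D ∧ a ∈ R := by
    intro A hA hDA hnA
    obtain ⟨⟨a, haA⟩, ha, haD⟩ := PGroup.exists_mem_normalizer_not_mem hA
      (H := D.subgroupOf A) (fun e => hnA (Subgroup.subgroupOf_eq_top.1 e))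
    have haY : a ∈ Y := by
      have h1 := Subgroup.le_normalizer_map A.subtype ⟨_, ha, rfl⟩
      rwa [Subgroup.subgroupOf_map_subtype, inf_eq_left.2 hDA] at h1
    refine ⟨a, haA, haD, ⟨⟨a, haY⟩, hns _ ?_, rfl⟩⟩
    obtain ⟨j, hj⟩ := S1483.orderOf_pow_of_isPGroup hr' hA haA
    exact ⟨j, by rw [← Subgroup.orderOf_coe]; exact hj⟩
  have hcard : Nat.card H' = Nat.card H :=
    Subgroup.card_map_of_injective (MulAut.conj g).injective
  have hHr' : IsPGroup r H' := hHr.map _
  obtain ⟨a, haH, haD, haR⟩ := hgrow H hHr inf_le_left fun hle => hg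
    (Subgroup.eq_of_le_of_card_ge (hle.trans inf_le_right) hcard.le).symm
  obtain ⟨b, hbH, hbD, hbR⟩ := hgrow H' hHr' inf_le_right fun hle => hg
    (Subgroup.eq_of_le_of_card_ge (hle.trans inf_le_left) hcard.ge)
  have hRr : IsPGroup r R := (Cores.isPGroup_pCore r Y).map _
  obtain ⟨S, hS⟩ := hRr.exists_le_sylow
  obtain ⟨c, hc⟩ := MulAction.exists_smul_eq G P S
  have hSc : (S : Subgroup G) = H.map (MulAut.conj c).toMonoidHom := by
    rw [← hc, Sylow.coe_subgroup_smul, hHP]
    rfl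
  have hRH : R ≤ H := by
    by_contra hnot
    have hne' : H.map (MulAut.conj c).toMonoidHom ≠ H := fun e => hnot (e ▸ hSc ▸ hS)
    have hDR : D ≤ R := fun x hx => ⟨⟨x, hDY hx⟩, hDO hx, rfl⟩
    have hle : D ≤ H ⊓ H.map (MulAut.conj c).toMonoidHom := le_inf inf_le_left (hSc ▸ hDR.trans hS)
    have hle2 := hmax c ⟨hne', fun e => hgne (le_bot_iff.1 (e ▸ hle))⟩
    have heq := Subgroup.eq_of_le_of_card_ge hle hle2
    apply haD
    rw [heq]
    exact ⟨haH, hSc ▸ hS haR⟩
  exact hbD ⟨hRH hbR, hbH⟩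

theorem ti' {H : Subgroup G} (hH : IsMaxNilpotent H) :
    ∀ g : G, H.map (MulAut.conj g).toMonoidHom ≠ H →
      H ⊓ H.map (MulAut.conj g).toMonoidHom = ⊥ := fun _ hg => ti hG hCN hH hg

/-- A maximal nilpotent subgroup is not self-normalizing. -/
theorem normalizer_ne {H : Subgroup G} (hH : IsMaxNilpotent H) :
    Subgroup.normalizer (H : Set G) ≠ H := by
  intro e
  have hFC : IsFrobeniusComplement H := by
    refine ⟨maxNilpotent_ne_bot hG hH, maxNilpotent_ne_top hG hH, fun g hg => ?_⟩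
    refine ti hG hCN hH fun e' => hg (e ▸ ?_)
    exact Subgroup.mem_normalizer_iff_map_conj_eq.2 e'
  have htop := eq_top_of_normal hG (Frobenius.frobKernel_normal hFC)
    (Frobenius.frobKernel_ne_bot hFC)
  have h1 := Frobenius.card_frobKernel hFC
  rw [htop, Subgroup.card_top] at h1
  have h2 := H.card_mul_index
  rw [← h1] at h2
  have h3 : Nat.card H = 1 := by nlinarith [Nat.card_pos (α := G)]
  exact maxNilpotent_ne_bot hG hH (Subgroup.eq_bot_of_card_eq H h3)

omit hG in
theorem mem_of_mem_normalizer {H : Subgroup G} (hH : IsMaxNilpotent H) {r : ℕ} [hr : Fact r.Prime]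
    (hd : r ∣ Nat.card H) {y : G} (hy : y ∈ Subgroup.normalizer (H : Set G)) {k : ℕ}
    (hk : orderOf y = r ^ k) : ∃ P : Sylow r G, (P : Subgroup G) ≤ H ∧ y ∈ (P : Subgroup G) ∧
      (∃ z ∈ (P : Subgroup G), z ≠ 1 ∧ ∀ u ∈ (P : Subgroup G), Commute u z) ∧
      ∀ z ∈ (P : Subgroup G), z ≠ 1 →
      (∀ u ∈ (P : Subgroup G), Commute u z) → H = Subgroup.centralizer ({z} : Set G) := by
  obtain ⟨P, hPH, hz, hP⟩ := maximal_sylow (p := r) hCN hH hd
  refine ⟨P, hPH, ?_, hz, hP⟩
  have hyP : y ∈ Subgroup.normalizer ((P : Subgroup G) : Set G) :=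
    BSW.mem_normalizer_of_conj fun a ha => by
      obtain ⟨j, hj⟩ := S1483.orderOf_pow_of_isPGroup hr.out P.isPGroup' ha
      exact mem_sylow_of_orderOf hH.1 P hPH (BSW.conj_mem_of_mem_normalizer hy (hPH ha)) (k := j)
        (by rw [S1483.orderOf_conj', hj])
  have hp1 : IsPGroup r (Subgroup.zpowers y) := IsPGroup.of_card (n := k) (by
    rw [Nat.card_zpowers, hk])
  have := P.is_maximal' (hp1.to_sup_of_normal_right' P.isPGroup' (Subgroup.zpowers_le.2 hyP))
    le_sup_right
  rw [← this]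
  exact Subgroup.mem_sup_left (Subgroup.mem_zpowers y)

/-- Every maximal subgroup is the normalizer of a maximal nilpotent subgroup. -/
theorem exists_of_isCoatom {M : Subgroup G} (hM : IsCoatom M) :
    ∃ H : Subgroup G, IsMaxNilpotent H ∧ M = Subgroup.normalizer (H : Set G) := by
  have hMb : M ≠ ⊥ := by
    intro e
    have := hG.2.1
    obtain ⟨x, hx⟩ := exists_ne (1 : G)
    have htop : Subgroup.zpowers x = ⊤ := hM.2 _ (e ▸ bot_lt_iff_ne_bot.2
      (fun e' => hx (Subgroup.mem_bot.1 (e' ▸ Subgroup.mem_zpowers x))))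
    have : IsCyclic G := ⟨⟨x, fun y => by
      have : y ∈ Subgroup.zpowers x := htop ▸ Subgroup.mem_top y
      exact Subgroup.mem_zpowers_iff.1 this⟩⟩
    exact hG.2.2.1 (IsCyclic.isMulCommutative (α := G))
  have := hG.2.2.2 M hM.1
  have hMtop : (⊤ : Subgroup M) ≠ ⊥ := by
    have : Nontrivial M := M.nontrivial_iff_ne_bot.2 hMb
    exact top_ne_bot
  obtain ⟨r, hr, L, hLn, hL0, -, -, hLr, -, -⟩ :=
    Solvable.exists_minimal_normal_pGroup hMtop
  have := Fact.mk hr
  set R := (pCore r M).map M.subtype with hR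
  have hRp : IsPGroup r R := (Cores.isPGroup_pCore r M).map _
  have hR1 : R ≠ ⊥ := by
    rw [hR, Ne, Subgroup.map_eq_bot_iff_of_injective _ M.subtype_injective]
    exact fun e => hL0 (le_bot_iff.1 (e ▸ Cores.le_pCore hLn hLr))
  obtain ⟨H, hRH, hH⟩ := exists_maximal_nilpotent hRp.isNilpotent
  refine ⟨H, hH, ?_⟩
  have hle : M ≤ Subgroup.normalizer (H : Set G) := by
    intro g hg
    rw [Subgroup.mem_normalizer_iff_map_conj_eq]
    by_contra hne
    refine hR1 (le_bot_iff.1 ?_)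
    rw [← ti hG hCN hH hne]
    refine le_inf hRH fun x hx => ?_
    have hgR := Subgroup.mem_normalizer_iff_map_conj_eq.1 (le_normalizer_map_of_normal M (pCore r M) hg)
    exact Subgroup.map_mono hRH (hgR.symm ▸ hx)
  exact (eq_or_lt_of_le hle).resolve_right fun h => normalizer_ne_top hG hH (hM.2 _ h)

theorem isCoatom_normalizer {H : Subgroup G} (hH : IsMaxNilpotent H) :
    IsCoatom (Subgroup.normalizer (H : Set G)) := by
  obtain ⟨M, hM, hle⟩ :=
    (IsCoatomic.eq_top_or_exists_le_coatom (Subgroup.normalizer (H : Set G))).resolve_left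
      (normalizer_ne_top hG hH)
  obtain ⟨H', hH', rfl⟩ := exists_of_isCoatom hG hCN hM
  suffices e : H = H' by rwa [e]
  have hHM : H ≤ Subgroup.normalizer (H' : Set G) := Subgroup.le_normalizer.trans hle
  by_cases hco : (Nat.card H).Coprime (Nat.card H')
  swap
  · obtain ⟨r, hr, hr1, hr2⟩ := Nat.Prime.not_coprime_iff_dvd.1 hco
    have := Fact.mk hr
    obtain ⟨P, hPH, ⟨z, hz, hz1, hzc⟩, hP⟩ := maximal_sylow (p := r) hCN hH hr1
    obtain ⟨P', hPH', -, hP'⟩ := maximal_sylow (p := r) hCN hH' hr2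
    have hPP : (P : Subgroup G) ≤ (P' : Subgroup G) := fun a ha => by
      obtain ⟨j, hj⟩ := S1483.orderOf_pow_of_isPGroup hr P.isPGroup' ha
      obtain ⟨P'', hP''H, haP'', -, -⟩ :=
        mem_of_mem_normalizer hCN hH' hr2 (hHM (hPH ha)) hj
      exact mem_sylow_of_orderOf hH'.1 P' hPH' (hP''H haP'') hj
    have hPP' : (P' : Subgroup G) = (P : Subgroup G) := P.is_maximal' P'.isPGroup' hPP
    rw [hP z hz hz1 hzc, hP' z (hPP hz) hz1 fun u hu => hzc u (hPP' ▸ hu)]
  exfalso
  set B := Subgroup.normalizer (H : Set G) with hB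
  obtain ⟨h₀, hh₀, hh₀1⟩ := exists_mem_ne_one (maxNilpotent_ne_bot hG hH)
  have hdisj : ∀ y ∈ B, y ∈ H' → y = 1 := by
    intro y hy hy'
    have hc : y * h₀ * y⁻¹ * h₀⁻¹ = 1 := by
      refine orderOf_eq_one_iff.1 (Nat.eq_one_of_dvd_coprimes hco
        (Subgroup.orderOf_dvd_natCard H ?_) (Subgroup.orderOf_dvd_natCard H' ?_))
      · exact H.mul_mem (BSW.conj_mem_of_mem_normalizer hy hh₀) (H.inv_mem hh₀)
      · rw [show y * h₀ * y⁻¹ * h₀⁻¹ = y * (h₀ * y⁻¹ * h₀⁻¹) by group]
        exact H'.mul_mem hy' (BSW.conj_mem_of_mem_normalizer (hHM hh₀) (H'.inv_mem hy'))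
    rw [mul_inv_eq_one, mul_inv_eq_iff_eq_mul] at hc
    by_contra hy1
    have hm : h₀ ∈ H' := centralizer_le_of_ti hCN hH' (ti' hG hCN hH') hy' hy1
      (Subgroup.mem_centralizer_singleton_iff.2 hc.symm)
    exact hh₀1 (orderOf_eq_one_iff.1 (Nat.eq_one_of_dvd_coprimes hco
      (Subgroup.orderOf_dvd_natCard H hh₀) (Subgroup.orderOf_dvd_natCard H' hm)))
  have hfpf : Frobenius.FPF B H' := fun b hb hb1 x hx hbx => by
    by_contra hx1
    exact hb1 (hdisj b hb (centralizer_le_of_ti hCN hH' (ti' hG hCN hH') hx hx1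
      (Subgroup.mem_centralizer_singleton_iff.2 hbx)))
  have hsc : Frobenius.SmallCyclic B :=
    Frobenius.smallCyclic_of_fpf (maxNilpotent_ne_bot hG hH') hle hfpf
  have : Nontrivial B :=
    ⟨⟨⟨h₀, Subgroup.le_normalizer hh₀⟩, 1, fun e => hh₀1 (congrArg Subtype.val e)⟩⟩
  obtain ⟨z, hz, hz1⟩ := exists_mem_ne_one hsc.center_ne_bot
  have hBn : Group.IsNilpotent B := Cores.isNilpotent_of_le
    (K := Subgroup.centralizer ({(z : G)} : Set G))
    (fun b hb => Subgroup.mem_centralizer_singleton_iff.2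
      (congrArg Subtype.val (Subgroup.mem_center_iff.1 hz ⟨b, hb⟩)))
    (hCN _ fun e => hz1 (Subtype.ext e))
  exact normalizer_ne hG hCN hH (hH.2 B hBn Subgroup.le_normalizer)

theorem exists_complement {H : Subgroup G} (hH : IsMaxNilpotent H) :
    ∃ E : Subgroup G, IsComplIn H E (Subgroup.normalizer (H : Set G)) ∧ E ≠ ⊥ ∧
      Frobenius.FPF E H := by
  set N := Subgroup.normalizer (H : Set G) with hN
  have hHN : H ≤ N := Subgroup.le_normalizer
  have hcop : (Nat.card (H.subgroupOf N)).Coprime (H.subgroupOf N).index := by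
    rw [Cores.card_subgroupOf hHN]
    exact (maximal_coprime_index hCN hH).coprime_dvd_right (Subgroup.relIndex_dvd_index_of_le hHN)
  have : (H.subgroupOf N).Normal := Subgroup.normal_in_normalizer
  obtain ⟨E₀, hE⟩ := Subgroup.exists_right_complement'_of_coprime hcop
  refine ⟨E₀.map N.subtype, ⟨hHN, Subgroup.map_subtype_le _, ?_, ?_⟩, ?_, ?_⟩
  · rw [Subgroup.eq_bot_iff_forall]
    rintro _ ⟨hx, y, hy, rfl⟩
    have := hE.disjoint.le_bot ⟨show y ∈ H.subgroupOf N from hx, hy⟩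
    rw [Subgroup.mem_bot.1 this]
    rfl
  · intro m hm
    obtain ⟨⟨a, b⟩, hab, -⟩ := hE.existsUnique ⟨m, hm⟩
    exact ⟨(a : N).1, a.2, (b : N).1, ⟨b, b.2, rfl⟩, (congrArg Subtype.val hab).symm⟩
  · intro e
    rw [Subgroup.map_eq_bot_iff_of_injective _ N.subtype_injective] at e
    have := hE.sup_eq_top
    rw [e, sup_bot_eq, Subgroup.subgroupOf_eq_top] at this
    exact normalizer_ne hG hCN hH (le_antisymm this hHN)
  · rintro _ ⟨e, he, rfl⟩ he1 x hx hex
    by_contra hx1
    refine he1 ?_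
    have hm : (e : G) ∈ H := centralizer_le_of_ti hCN hH (ti' hG hCN hH) hx hx1
      (Subgroup.mem_centralizer_singleton_iff.2 hex)
    have := hE.disjoint.le_bot ⟨show e ∈ H.subgroupOf N from hm, he⟩
    rw [Subgroup.mem_bot.1 this]
    rfl

theorem fittingHallOf_normalizer {H : Subgroup G} (hH : IsMaxNilpotent H) :
    fittingHallOf (Subgroup.normalizer (H : Set G)) = H :=
  hH.2 _ (OddMax.fittingHallOf_nilpotent _) (OddMax.le_fittingHallOf Subgroup.le_normalizer
    le_rfl hH.1 ((maximal_coprime_index hCN hH).coprime_dvd_right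
      (Subgroup.relIndex_dvd_index_of_le Subgroup.le_normalizer)))

end Minimal

end Cfsg.Agent.CN
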