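/-
The theorem of Feit, Hall and Thompson: CN-groups of odd order are solvable.

* `isSolvable_of_odd`
-/
import Cfsg.Agent.Lib.CN.Minimal
import Cfsg.Agent.S1526

set_option autoImplicit false
open Cfsg

namespace Cfsg.Agent.CN

universe u

theorem Minimal.false {G : Type u} [Group G] [Finite G] (hG : IsMinSimpleOddOrder G)
    (hCN : IsCNGroup G) : False := by
  classical
  have := Fintype.ofFinite (Subgroup G)
  set T : Finset ℕ := (Finset.univ.filter fun H : Subgroup G => IsMaxNilpotent H).image
    (fun H : Subgroup G => Nat.card H) with hT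
  have hrep : ∀ n : T, ∃ H : Subgroup G, IsMaxNilpotent H ∧ Nat.card H = n := fun n => by
    obtain ⟨H, hH, he⟩ := Finset.mem_image.1 n.2
    exact ⟨H, (Finset.mem_filter.1 hH).2, he⟩
  choose H hH hn using hrep
  have hcop : ∀ i j, i ≠ j → (Nat.card (H i)).Coprime (Nat.card (H j)) := by
    intro i j hij
    rcases (S1483.result hG hCN).1 (H i) (H j) ⟨(hH i).1, (hH i).2⟩ ⟨(hH j).1, (hH j).2⟩ with
      ⟨g, hg⟩ | h
    · refine absurd (Subtype.ext ?_) hij
      have := congrArg (fun K : Subgroup G => Nat.card K) hg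
      simp only [Subgroup.card_map_of_injective (f := (MulAut.conj g).toMonoidHom)
        (MulAut.conj g).injective, hn] at this
      exact this.symm
    · exact h
  have hcov : ∀ x : G, x ≠ 1 → ∃ i, ∃ y : G, y * x * y⁻¹ ∈ H i := by
    intro x hx
    obtain ⟨L, hxL, hL⟩ := exists_maximal_nilpotent (A := Subgroup.zpowers x) (by
      let : CommGroup (Subgroup.zpowers x) := IsCyclic.commGroup
      infer_instance)
    have hmem : Nat.card L ∈ T :=
      Finset.mem_image.2 ⟨L, Finset.mem_filter.2 ⟨Finset.mem_univ _, hL⟩, rfl⟩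
    refine ⟨⟨_, hmem⟩, ?_⟩
    rcases (S1483.result hG hCN).1 L (H ⟨_, hmem⟩) ⟨hL.1, hL.2⟩ ⟨(hH _).1, (hH _).2⟩ with
      ⟨g, hg⟩ | h
    · exact ⟨g, hg ▸ ⟨x, hxL (Subgroup.mem_zpowers x), by simp⟩⟩
    · rw [hn] at h
      exact absurd ((Nat.coprime_self _).1 h) fun e =>
        Minimal.maxNilpotent_ne_bot hG hL (Subgroup.eq_bot_of_card_eq L e)
  refine S1526.result hG.1 (ι := T) ?_ (fun i => Subgroup.normalizer (H i : Set G)) H
    (fun i => lt_of_le_of_ne Subgroup.le_normalizer (Minimal.normalizer_ne hG hCN (hH i)).symm)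
    (fun i => Minimal.maxNilpotent_ne_bot hG (hH i))
    (fun i x hx h hh => BSW.conj_mem_of_mem_normalizer hx hh)
    (fun i h hh h1 => inf_le_right.trans
      (centralizer_le_of_ti hCN (hH i) (Minimal.ti' hG hCN (hH i)) hh h1))
    hcop (fun i => ⟨fun g hg x hx hgx => ?_, rfl⟩) hcov
  · -- at least two classes
    by_contra hlt
    have : Nontrivial G := hG.2.1.toNontrivial
    obtain ⟨x, hx⟩ := exists_ne (1 : G)
    obtain ⟨i, -⟩ := hcov x hx
    have hone : ∀ j, j = i := fun j => by
      rw [not_le, Nat.lt_succ_iff, Fintype.card_le_one_iff] at hlt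
      exact hlt j i
    refine Minimal.maxNilpotent_ne_top hG (hH i) (Subgroup.eq_top_of_card_eq _ ?_)
    refine Nat.dvd_antisymm (Subgroup.card_subgroup_dvd_card _) ?_
    rw [Nat.dvd_iff_prime_pow_dvd_dvd]
    intro p m hp hpm
    rcases Nat.eq_zero_or_pos m with rfl | hm
    · rw [pow_zero]; exact one_dvd _
    have := Fact.mk hp
    obtain ⟨y, hy⟩ := exists_prime_orderOf_dvd_card' (G := G) p
      ((dvd_pow_self p hm.ne').trans hpm)
    obtain ⟨j, z, hz⟩ := hcov y fun e => by
      rw [e, orderOf_one] at hy; exact hp.one_lt.ne hy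
    rw [hone j] at hz
    have hd : p ∣ Nat.card (H i) := by
      rw [← hy, ← S1483.orderOf_conj' z y]
      exact Subgroup.orderOf_dvd_natCard _ hz
    have hni := maximal_index_not_dvd hCN (hH i) hd
    rw [← Subgroup.card_mul_index (H i)] at hpm
    exact Nat.Coprime.dvd_of_dvd_mul_right ((hp.coprime_iff_not_dvd.2 hni).pow_left m) hpm
  · by_contra hx1
    have hne : (H i).map (MulAut.conj g).toMonoidHom ≠ H i := fun e =>
      hg (Subgroup.mem_normalizer_iff_map_conj_eq.2 e)
    have h1 : g * x * g⁻¹ ∈ H i ⊓ (H i).map (MulAut.conj g).toMonoidHom :=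
      ⟨hgx, ⟨x, hx, rfl⟩⟩
    rw [Minimal.ti hG hCN (hH i) hne, Subgroup.mem_bot] at h1
    exact hx1 (conj_eq_one_iff.1 h1)

theorem isSolvable_of_odd : ∀ (n : ℕ) (G : Type u) [Group G] [Finite G], Nat.card G = n →
    Odd (Nat.card G) → IsCNGroup G → Group.IsSolvable G := by
  intro n
  induction n using Nat.strong_induction_on with
  | _ n ih =>
    intro G _ _ hn hodd hCN
    by_contra hns
    have hsub : ∀ H : Subgroup G, H ≠ ⊤ → Group.IsSolvable H := fun H hH =>
      ih _ (hn ▸ lt_of_le_of_ne (Subgroup.card_le_card_group H)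
        fun e => hH (Subgroup.eq_top_of_card_eq H e))
        H rfl (hodd.of_dvd_nat (Subgroup.card_subgroup_dvd_card H)) (isCNGroup_subgroup hCN H)
    have hnt : Nontrivial G := by
      by_contra h
      rw [not_nontrivial_iff_subsingleton] at h
      exact hns inferInstance
    have hsimple : IsSimpleGroup G := by
      refine { eq_bot_or_eq_top_of_normal := fun N hN => ?_ }
      by_contra h
      push Not at h
      have := hsub N h.2
      have := ih _ (hn ▸ Solvable.card_quotient_lt h.1) (G ⧸ N) rfl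
        (hodd.of_dvd_nat ⟨_, N.card_eq_card_quotient_mul_card_subgroup⟩)
        (isCNGroup_quotient hCN N)
      exact hns (Group.isSolvable_of_ker_le_range N.subtype (QuotientGroup.mk' N)
        (by rw [QuotientGroup.ker_mk', Subgroup.range_subtype]))
    refine Minimal.false ⟨hodd, hsimple, fun hc => hns ?_, hsub⟩ hCN
    exact Group.isSolvable_of_comm fun a b => hc.is_comm.comm a b

end Cfsg.Agent.CN
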